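import Groth.Agent.LA96.DepthFlat
import Groth.Agent.Triage.CMMor
import Groth.Agent.AvramovLib.Core
import Groth.Prelude.Def_CInt
import Mathlib.AlgebraicGeometry.Morphisms.Flat

/-! # Local rings of fibres: depth and dimension -/

set_option autoImplicit false

universe u

open AlgebraicGeometry CategoryTheory IsLocalRing

namespace Groth.Agent.LA96

theorem depth_ringEquiv {R S : Type u} [CommRing R] [CommRing S] [IsLocalRing R] [IsLocalRing S] (e : R ≃+* S) :
    LocCoh.depth R R = LocCoh.depth S S :=
  Alg6.depth_eq_of_semilinear (e : R →+* S) e.surjective e.toAddEquiv fun r x => map_mul e r x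

variable {X S : Scheme.{u}} (f : X ⟶ S)

/-- The local ring of a fibre is the quotient of the local ring by the maximal ideal of the base. -/
theorem exists_fiberStalkEquiv (x : X) :
    Nonempty ((↑(X.presheaf.stalk x) ⧸ (maximalIdeal (S.presheaf.stalk (f x))).map (f.stalkMap x).hom) ≃+*
      ↑(CInt.fiberStalk f x)) :=
  Triage.CMMor.exists_equiv_fibre_stalk f x

theorem isNoetherianRing_fiberStalk [IsLocallyNoetherian X] (x : X) :
    IsNoetherianRing (CInt.fiberStalk f x) := by
  obtain ⟨e⟩ := exists_fiberStalkEquiv f x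
  exact isNoetherianRing_of_ringEquiv _ e

/-- The depth formula along a flat morphism of locally Noetherian schemes. -/
theorem depth_stalk_eq_add [IsLocallyNoetherian X] [IsLocallyNoetherian S] [Flat f] (x : X) :
    LocCoh.depth (X.presheaf.stalk x) (X.presheaf.stalk x) =
      LocCoh.depth (S.presheaf.stalk (f x)) (S.presheaf.stalk (f x)) +
        LocCoh.depth (CInt.fiberStalk f x) (CInt.fiberStalk f x) := by
  algebraize [(f.stalkMap x).hom]
  haveI : Module.Flat (S.presheaf.stalk (f x)) (X.presheaf.stalk x) := Flat.stalkMap f x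
  haveI : IsLocalHom (algebraMap (S.presheaf.stalk (f x)) (X.presheaf.stalk x)) :=
    inferInstanceAs (IsLocalHom (f.stalkMap x).hom)
  obtain ⟨e⟩ := exists_fiberStalkEquiv f x
  rw [depth_eq_add (S.presheaf.stalk (f x)) (X.presheaf.stalk x)]
  congr 1
  exact depth_ringEquiv e

/-- The dimension formula along a flat morphism of locally Noetherian schemes. -/
theorem dim_stalk_eq_add [IsLocallyNoetherian X] [IsLocallyNoetherian S] [Flat f] (x : X) :
    ringKrullDim (X.presheaf.stalk x) =
      ringKrullDim (S.presheaf.stalk (f x)) + ringKrullDim (CInt.fiberStalk f x) := by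
  algebraize [(f.stalkMap x).hom]
  haveI : Module.Flat (S.presheaf.stalk (f x)) (X.presheaf.stalk x) := Flat.stalkMap f x
  haveI : IsLocalHom (algebraMap (S.presheaf.stalk (f x)) (X.presheaf.stalk x)) :=
    inferInstanceAs (IsLocalHom (f.stalkMap x).hom)
  obtain ⟨e⟩ := exists_fiberStalkEquiv f x
  rw [AvramovLib.dim_eq_add (A := S.presheaf.stalk (f x)) (B := X.presheaf.stalk x)]
  congr 1
  exact ringKrullDim_eq_of_ringEquiv e

/-- The depth of a Cohen-Macaulay local ring is its dimension. -/
theorem depth_eq_ringKrullDim (R : Type u) [CommRing R] [LocCoh.IsCohenMacaulayLocalRing R] :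
    ((LocCoh.depth R R : ℕ∞) : WithBot ℕ∞) = ringKrullDim R := by
  rw [← LocCoh.IsCohenMacaulayLocalRing.supportDim_eq_depth, Module.supportDim_self_eq_ringKrullDim]

end Groth.Agent.LA96
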