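import Groth.Agent.FlatLoc6.Depth

/-! # The depth formula for a flat local homomorphism -/

set_option autoImplicit false

universe u

open IsLocalRing TensorProduct

namespace Groth.Agent.LA96

variable (A B : Type u) [CommRing A] [CommRing B] [Algebra A B]
variable [IsLocalRing A] [IsLocalRing B] [IsLocalHom (algebraMap A B)]
variable [IsNoetherianRing A] [IsNoetherianRing B] [Module.Flat A B]

/-- `depth B = depth A + depth (B / m B)`. -/
theorem depth_eq_add :
    LocCoh.depth B B = LocCoh.depth A A + LocCoh.depth (EGA4.FibRing A B) (EGA4.FibRing A B) := by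
  have h := FlatLoc6.depth_tensor (A := A) (B := B) (N := B) A
  have e : B ⊗[A] A ≃ₗ[B] B := TensorProduct.AlgebraTensorModule.rid A B B
  rw [Hensel.depth_congr e] at h
  rw [h]
  congr 1
  exact (Alg6.depth_eq_of_semilinear (RingHom.id (EGA4.FibRing A B)) Function.surjective_id
    ((Submodule.quotEquivOfEq _ _ (Ideal.smul_eq_mul _ _ |>.trans (Ideal.mul_top _))).toAddEquiv)
    fun r x => by
      obtain ⟨x, rfl⟩ := Submodule.Quotient.mk_surjective _ x
      obtain ⟨r, rfl⟩ := Ideal.Quotient.mk_surjective r
      rfl)

end Groth.Agent.LA96
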