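import Mathlib
import Groth.Agent.LA96.Dev
import Groth.Agent.S9231

/-! # The invariant `dev` along flat unramified local maps -/

set_option autoImplicit false
set_option linter.style.haveILetI false
set_option backward.isDefEq.respectTransparency.types false
set_option maxHeartbeats 1000000

universe u

open IsLocalRing RingTheory.Sequence

namespace Groth.Agent.LA96.Dev

open Groth.Agent.Synt29 Groth.Agent.CILib Groth.Agent.AvramovLib Groth.Agent.FlatLoc6

variable {R G A B : Type u} [CommRing R] [CommRing G] [CommRing A] [CommRing B] [IsRegularLocalRing R]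
  [IsRegularLocalRing G] [IsLocalRing A] [IsLocalRing B] [IsNoetherianRing A] [IsNoetherianRing B]
  [Algebra R G] [IsLocalHom (algebraMap R G)] [Module.Flat R G]
  [IsRegularLocalRing (G ⧸ (maximalIdeal R).map (algebraMap R G))]
  [Algebra A B] [IsLocalHom (algebraMap A B)] [Module.Flat A B]

/-- On a regular cover of a flat map with `𝔪_A B = 𝔪_B` the invariants agree. -/
theorem dev_cover_eq (hm : (maximalIdeal A).map (algebraMap A B) = maximalIdeal B)
    (π : R →+* A) (q : G →+* B) (hπ : Function.Surjective π) (hq : Function.Surjective q)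
    (hc : q.comp (algebraMap R G) = (algebraMap A B).comp π) : dev q = dev π := by
  classical
  set P := (maximalIdeal R).map (algebraMap R G) with hP
  haveI : ((maximalIdeal A).map (algebraMap A B)).IsMaximal := hm ▸ maximalIdeal.isMaximal B
  letI : Field (B ⧸ (maximalIdeal A).map (algebraMap A B)) := Ideal.Quotient.field _
  have hfs := fibMap_surjective π q hπ hq hc
  have hkb : RingHom.ker (fibMap π q hπ hc) = maximalIdeal (G ⧸ P) :=
    IsLocalRing.eq_maximalIdeal (RingHom.ker_isMaximal_of_surjective _ hfs)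
  obtain ⟨rb, hregb, hkerb⟩ := (Synt29.ciKer_iff_regular _ hfs).1
    ((CILib.isCI_iff_ciKer _ hfs).1 (KRegLib.isCompleteIntersection_of_regular _))
  rw [ker_fibMap π q hπ hq hc] at hkerb
  have hys : ∃ ys : List G, (∀ y ∈ ys, y ∈ RingHom.ker q) ∧ ys.map (Ideal.Quotient.mk P) = rb := by
    have hl : ∀ r ∈ rb, ∃ z ∈ RingHom.ker q, Ideal.Quotient.mk P z = r := fun r hr =>
      (Ideal.mem_map_iff_of_surjective _ Ideal.Quotient.mk_surjective).1 (hkerb ▸ Ideal.subset_span hr)
    clear hregb hkerb
    induction rb with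
    | nil => exact ⟨[], by simp, rfl⟩
    | cons r rb ih =>
      obtain ⟨z, hz, rfl⟩ := hl r List.mem_cons_self
      obtain ⟨ys, hys, rfl⟩ := ih (fun a ha => hl a (List.mem_cons_of_mem _ ha))
      exact ⟨z :: ys, fun a ha => (List.mem_cons.1 ha).elim (fun h => h ▸ hz) (hys a), rfl⟩
  obtain ⟨ys, hysK, rfl⟩ := hys
  obtain ⟨hw, hflat⟩ := regular_of_fibre (A := R) ys G (by
    let e : (G ⧸ mN R G G) ≃ₗ[G] G ⧸ P := Submodule.quotEquivOfEq _ _
      (by show P • (⊤ : Submodule G G) = P; rw [smul_eq_mul, Ideal.mul_top])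
    rw [e.isWeaklyRegular_congr ys, ← isWeaklyRegular_map_algebraMap_iff (G ⧸ P) (G ⧸ P) ys]
    exact hregb.toIsWeaklyRegular)
  set T := Ideal.ofList ys with hT
  have hTq : T ≤ RingHom.ker q := Ideal.span_le.2 hysK
  have hTm : T ≤ maximalIdeal G := hTq.trans (le_maximalIdeal (RingHom.ker_ne_top q))
  haveI : Nontrivial (G ⧸ T) := Ideal.Quotient.nontrivial_iff.2
    (ne_top_of_le_ne_top (maximalIdeal.isMaximal G).ne_top hTm)
  haveI : IsLocalRing (G ⧸ T) := IsLocalRing.of_surjective' (Ideal.Quotient.mk T) Ideal.Quotient.mk_surjective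
  haveI hflat1 : Module.Flat R (G ⧸ T) := Module.Flat.of_linearEquiv
    ((Submodule.quotEquivOfEq T (T • (⊤ : Submodule G G)) (by rw [smul_eq_mul, Ideal.mul_top])).restrictScalars R)
  have hmaxG : maximalIdeal G ≤ P ⊔ T := by
    intro x hx
    have h1 : Ideal.Quotient.mk P x ∈ maximalIdeal (G ⧸ P) := by
      rw [← map_maximalIdeal_of_surjective (Ideal.Quotient.mk P) Ideal.Quotient.mk_surjective]
      exact Ideal.mem_map_of_mem _ hx
    rw [← hkb, ker_fibMap π q hπ hq hc, hkerb, ← Ideal.map_ofList, Ideal.mem_quotient_iff_mem_sup] at h1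
    rwa [sup_comm]
  have hmap1 : (maximalIdeal R).map (algebraMap R (G ⧸ T)) = maximalIdeal (G ⧸ T) := by
    rw [IsScalarTower.algebraMap_eq R G (G ⧸ T), ← Ideal.map_map, Ideal.Quotient.algebraMap_eq,
      ← map_maximalIdeal_of_surjective (Ideal.Quotient.mk T) Ideal.Quotient.mk_surjective]
    refine le_antisymm (Ideal.map_mono (map_maximalIdeal_le (algebraMap R G))) ((Ideal.map_mono hmaxG).trans ?_)
    rw [Ideal.map_sup, Ideal.map_quotient_self, sup_bot_eq]
  haveI : IsLocalHom (algebraMap R (G ⧸ T)) := ((local_hom_TFAE _).out 0 2).2 hmap1.le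
  haveI hreg1 : IsRegularLocalRing (G ⧸ T) := by
    refine IsRegularLocalRing.of_spanFinrank_maximalIdeal_le _ ?_
    rw [dim_eq_add (A := R) (B := G ⧸ T), ringKrullDim_eq_nat R, ← hmap1, spanFinrank_map_of_flat]
    refine le_add_of_nonneg_right ?_
    rw [hmap1]
    haveI : Nontrivial ((G ⧸ T) ⧸ maximalIdeal (G ⧸ T)) := Ideal.Quotient.nontrivial_iff.2 (maximalIdeal.isMaximal _).ne_top
    exact ringKrullDim_nonneg_of_nontrivial
  let g1 : (G ⧸ T) →+* B := Ideal.Quotient.lift T q fun a ha => hTq ha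
  have hg1 : Function.Surjective g1 := Ideal.Quotient.lift_surjective_of_surjective _ _ hq
  have h1 : dev q = dev g1 := by
    rw [show q = g1.comp (Ideal.Quotient.mk T) from RingHom.ext fun _ => rfl]
    exact dev_comp (Ideal.Quotient.mk T) Ideal.Quotient.mk_surjective g1 hg1
  have hker : RingHom.ker g1 = (RingHom.ker π).map (algebraMap R (G ⧸ T)) := by
    have hIle : (RingHom.ker π).map (algebraMap R (G ⧸ T)) ≤ RingHom.ker g1 := by
      rw [Ideal.map_le_iff_le_comap]
      intro r hr
      show q (algebraMap R G r) = 0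
      rw [← RingHom.comp_apply, hc, RingHom.comp_apply, show π r = 0 from hr, map_zero]
    refine le_antisymm ?_ hIle
    let IG := (RingHom.ker π).map (algebraMap R (G ⧸ T))
    letI := quotAlgebra (G := G ⧸ T) π hπ
    haveI : Nontrivial ((G ⧸ T) ⧸ IG) := Ideal.Quotient.nontrivial_iff.2
      (ne_top_of_le_ne_top (RingHom.ker_ne_top g1) hIle)
    haveI : IsLocalRing ((G ⧸ T) ⧸ IG) := IsLocalRing.of_surjective' (Ideal.Quotient.mk IG) Ideal.Quotient.mk_surjective
    have hmA : (maximalIdeal A).map (algebraMap A ((G ⧸ T) ⧸ IG)) = maximalIdeal ((G ⧸ T) ⧸ IG) := by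
      rw [← map_maximalIdeal_of_surjective π hπ, Ideal.map_map,
        show (algebraMap A ((G ⧸ T) ⧸ IG)).comp π = (Ideal.Quotient.mk IG).comp (algebraMap R (G ⧸ T)) from
          RingHom.ext (quotAlgebra_apply π hπ),
        ← Ideal.map_map, hmap1, map_maximalIdeal_of_surjective _ Ideal.Quotient.mk_surjective]
    haveI : IsLocalHom (algebraMap A ((G ⧸ T) ⧸ IG)) := ((local_hom_TFAE _).out 0 2).2 hmA.le
    let g : ((G ⧸ T) ⧸ IG) →ₐ[A] B :=
      { Ideal.Quotient.lift IG g1 (fun r hr => hIle hr) with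
        commutes' := fun a => by
          obtain ⟨r, rfl⟩ := hπ a
          rw [quotAlgebra_apply π hπ]
          exact RingHom.congr_fun hc r }
    have hgs : Function.Surjective g := Ideal.Quotient.lift_surjective_of_surjective _ _ hg1
    have hN : RingHom.ker g.toRingHom ≤ ⊥ := by
      refine Submodule.le_of_le_smul_of_le_jacobson_bot (I := maximalIdeal ((G ⧸ T) ⧸ IG)) (IsNoetherian.noetherian _)
        (maximalIdeal_le_jacobson _) ?_
      rw [bot_sup_eq, smul_eq_mul]
      intro x hx
      have := ker_inf_le g hgs ⟨hx, hmA.symm ▸ le_maximalIdeal (RingHom.ker_ne_top _) hx⟩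
      rwa [hmA] at this
    intro x hx
    exact Ideal.Quotient.eq_zero_iff_mem.1 ((Submodule.mem_bot _).1 (hN (show g.toRingHom (Ideal.Quotient.mk IG x) = 0 from hx)))
  rw [h1, dev, dev, hker, ← hmap1, spanFinrank_map_of_flat, spanFinrank_map_of_flat]

/-- Flat local homomorphisms with `𝔪_A B = 𝔪_B` preserve the invariant, complete case. -/
theorem dev_eq_of_flat_complete [IsAdicComplete (maximalIdeal A) A] [IsAdicComplete (maximalIdeal B) B]
    (hm : (maximalIdeal A).map (algebraMap A B) = maximalIdeal B)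
    {R' G' : Type u} [CommRing R'] [CommRing G'] [IsRegularLocalRing R'] [IsRegularLocalRing G']
    (π' : R' →+* A) (hπ' : Function.Surjective π') (q' : G' →+* B) (hq' : Function.Surjective q') :
    dev π' = dev q' := by
  obtain ⟨R₀, G₀, _, _, _, _, _, _, _, _, _, _, π, q, hπ, hq, hc⟩ :=
    exists_regular_cover (IsNoetherian.noetherian _) (IsNoetherian.noetherian _) (algebraMap A B)
  rw [dev_indep π' hπ' π hπ, dev_indep q' hq' q hq]
  exact (dev_cover_eq hm π q hπ hq hc).symm

end Groth.Agent.LA96.Dev
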