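import Groth.Agent.LA96.FibreStalk
import Mathlib.AlgebraicGeometry.Properties
import Mathlib.AlgebraicGeometry.Morphisms.UnderlyingMap
import Mathlib.RingTheory.Ideal.KrullsHeightTheorem

/-! # Dimension of the local rings of fibres along composites and base changes -/

set_option autoImplicit false

universe u

open AlgebraicGeometry CategoryTheory CategoryTheory.Limits IsLocalRing Order

namespace Groth.Agent.LA96

/-- `dim B ≤ dim A + dim (B / m B)` for a local homomorphism of Noetherian local rings. -/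
theorem dim_le_add (A B : Type u) [CommRing A] [CommRing B] [Algebra A B] [IsNoetherianRing A] [IsNoetherianRing B]
    [IsLocalRing A] [IsLocalRing B] [IsLocalHom (algebraMap A B)] :
    ringKrullDim B ≤ ringKrullDim A + ringKrullDim (B ⧸ (maximalIdeal A).map (algebraMap A B)) := by
  haveI : (maximalIdeal B).LiesOver (maximalIdeal A) := ⟨(maximalIdeal_comap (algebraMap A B)).symm⟩
  have h := Ideal.height_le_height_add_of_liesOver (maximalIdeal A) (maximalIdeal B)
  rw [← IsLocalRing.maximalIdeal_height_eq_ringKrullDim, ← IsLocalRing.maximalIdeal_height_eq_ringKrullDim]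
  refine (WithBot.coe_le_coe.mpr h).trans ?_
  rw [WithBot.coe_add]
  refine add_le_add le_rfl ?_
  refine Ideal.height_le_ringKrullDim_of_ne_top ?_
  haveI : Nontrivial (B ⧸ (maximalIdeal A).map (algebraMap A B)) :=
    Ideal.Quotient.nontrivial_iff.mpr (ne_top_of_le_ne_top (maximalIdeal.isMaximal B).ne_top
      (map_maximalIdeal_le (algebraMap A B)))
  haveI : IsLocalRing (B ⧸ (maximalIdeal A).map (algebraMap A B)) :=
    .of_surjective' _ Ideal.Quotient.mk_surjective
  rw [IsLocalRing.map_maximalIdeal_of_surjective _ Ideal.Quotient.mk_surjective]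
  exact (maximalIdeal.isMaximal _).ne_top

variable {X S : Scheme.{u}} (f : X ⟶ S)

theorem fiber_apply {s : S} (w : ↥(f.fiber s)) : f (f.fiberι s w) = s := by
  have : f.fiberι s w ∈ f ⁻¹' {s} := by rw [← f.range_fiberι]; exact ⟨w, rfl⟩
  exact this

/-- The local rings of a fibre are the `fiberStalk`s. -/
theorem exists_stalk_fiber_equiv {s : S} (w : ↥(f.fiber s)) :
    Nonempty (↑((f.fiber s).presheaf.stalk w) ≃+* ↑(CInt.fiberStalk f (f.fiberι s w))) := by
  obtain ⟨x, hx⟩ : ∃ x, f.fiberι s w = x := ⟨_, rfl⟩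
  have hs : f x = s := by rw [← hx]; exact fiber_apply f w
  rw [hx]
  subst hs
  obtain ⟨e₁⟩ := Triage.CMMor.exists_equiv_fibre_stalk_aux f x (f x) rfl w hx
  obtain ⟨e₂⟩ := Triage.CMMor.exists_equiv_fibre_stalk_aux f x (f x) rfl (f.asFiber x) (f.fiberι_asFiber x)
  exact ⟨e₁.symm.trans e₂⟩

theorem dim_stalk_fiber {s : S} (w : ↥(f.fiber s)) :
    ringKrullDim ((f.fiber s).presheaf.stalk w) = ringKrullDim (CInt.fiberStalk f (f.fiberι s w)) := by
  obtain ⟨e⟩ := exists_stalk_fiber_equiv f w
  exact ringKrullDim_eq_of_ringEquiv e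

theorem isNoetherianRing_stalk_fiber [IsLocallyNoetherian X] {s : S} (w : ↥(f.fiber s)) :
    IsNoetherianRing ((f.fiber s).presheaf.stalk w) := by
  obtain ⟨e⟩ := exists_stalk_fiber_equiv f w
  haveI := isNoetherianRing_fiberStalk f (f.fiberι s w)
  exact isNoetherianRing_of_ringEquiv _ e.symm

/-- A nonempty fibre has a point at which its local ring has dimension zero. -/
theorem exists_fiberStalk_dim_zero (x : X) :
    ∃ z, f z = f x ∧ ringKrullDim (CInt.fiberStalk f z) = 0 := by
  obtain ⟨Z, hZ, -⟩ := exists_mem_irreducibleComponents_subset_of_isIrreducible _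
    (isIrreducible_singleton (x := f.asFiber x))
  have hirr : IsIrreducible Z := hZ.1
  let η := hirr.genericPoint
  have hcl : closure {η} = closure Z := hirr.genericPoint_closure_eq
  refine ⟨f.fiberι _ η, fiber_apply f η, ?_⟩
  rw [← dim_stalk_fiber, ringKrullDim_stalk_eq_coheight, coheight_eq_zero.mpr]
  · rfl
  intro b (hb : b ⤳ η)
  have hsub : Z ⊆ closure {b} := (subset_closure.trans hcl.ge).trans
    (closure_minimal (Set.singleton_subset_iff.mpr (specializes_iff_mem_closure.mp hb)) isClosed_closure)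
  have hb' : b ∈ Z := hZ.2 isIrreducible_singleton.closure hsub (subset_closure rfl)
  exact specializes_iff_mem_closure.mpr (hcl ▸ subset_closure hb')

section Stalks

variable {Z W : Scheme.{u}} (h : Z ⟶ W) (z : Z)
variable [IsNoetherianRing (Z.presheaf.stalk z)] [IsNoetherianRing (W.presheaf.stalk (h z))]

theorem dim_stalk_le_add :
    ringKrullDim (Z.presheaf.stalk z) ≤
      ringKrullDim (W.presheaf.stalk (h z)) + ringKrullDim (CInt.fiberStalk h z) := by
  algebraize [(h.stalkMap z).hom]
  haveI : IsLocalHom (algebraMap (W.presheaf.stalk (h z)) (Z.presheaf.stalk z)) :=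
    inferInstanceAs (IsLocalHom (h.stalkMap z).hom)
  obtain ⟨e⟩ := exists_fiberStalkEquiv h z
  rw [← ringKrullDim_eq_of_ringEquiv e]
  exact dim_le_add _ _

theorem dim_stalk_le_of_flat [Flat h] :
    ringKrullDim (W.presheaf.stalk (h z)) ≤ ringKrullDim (Z.presheaf.stalk z) := by
  algebraize [(h.stalkMap z).hom]
  haveI : Module.Flat (W.presheaf.stalk (h z)) (Z.presheaf.stalk z) := Flat.stalkMap h z
  haveI : IsLocalHom (algebraMap (W.presheaf.stalk (h z)) (Z.presheaf.stalk z)) :=
    inferInstanceAs (IsLocalHom (h.stalkMap z).hom)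
  rw [AvramovLib.dim_eq_add (A := W.presheaf.stalk (h z)) (B := Z.presheaf.stalk z)]
  haveI : Nontrivial (Z.presheaf.stalk z ⧸ (maximalIdeal (W.presheaf.stalk (h z))).map
      (algebraMap (W.presheaf.stalk (h z)) (Z.presheaf.stalk z))) :=
    Ideal.Quotient.nontrivial_iff.mpr (ne_top_of_le_ne_top (maximalIdeal.isMaximal _).ne_top
      (map_maximalIdeal_le (algebraMap (W.presheaf.stalk (h z)) (Z.presheaf.stalk z))))
  exact le_add_of_nonneg_right ringKrullDim_nonneg_of_nontrivial

end Stalks

section Comp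

variable {X' : Scheme.{u}} (g : X' ⟶ X)

theorem fiberMap_fiberι (s : S) :
    CInt.fiberMap g f s ≫ f.fiberι s = (g ≫ f).fiberι s ≫ g :=
  pullback.lift_fst _ _ _

theorem isPullback_fiberMap (s : S) :
    IsPullback ((g ≫ f).fiberι s) (CInt.fiberMap g f s) g (f.fiberι s) := by
  refine IsPullback.of_bot ?_ (fiberMap_fiberι f g s).symm (IsPullback.of_hasPullback f (S.fromSpecResidueField s))
  have h : CInt.fiberMap g f s ≫ pullback.snd f (S.fromSpecResidueField s) =
      pullback.snd (g ≫ f) (S.fromSpecResidueField s) :=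
    (pullback.lift_snd _ _ _).trans (Category.comp_id _)
  rw [h]
  exact IsPullback.of_hasPullback (g ≫ f) (S.fromSpecResidueField s)

theorem flat_fiberMap [Flat g] (s : S) : Flat (CInt.fiberMap g f s) :=
  MorphismProperty.of_isPullback (P := @Flat) (isPullback_fiberMap f g s) inferInstance

theorem dim_fiberStalk_le_comp [IsLocallyNoetherian X] [IsLocallyNoetherian X'] [Flat g] (x' : X') :
    ringKrullDim (CInt.fiberStalk f (g x')) ≤ ringKrullDim (CInt.fiberStalk (g ≫ f) x') := by
  let s := (g ≫ f) x'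
  let h := CInt.fiberMap g f s
  let w := (g ≫ f).asFiber x'
  haveI := flat_fiberMap f g s
  have hw : f.fiberι s (h w) = g x' := by
    rw [← Scheme.Hom.comp_apply, fiberMap_fiberι, Scheme.Hom.comp_apply, (g ≫ f).fiberι_asFiber]
  haveI := isNoetherianRing_stalk_fiber (g ≫ f) w
  haveI := isNoetherianRing_stalk_fiber f (h w)
  have h1 := (dim_stalk_fiber f (h w)).symm.trans_le ((dim_stalk_le_of_flat h w).trans_eq (dim_stalk_fiber _ w))
  rwa [hw, (g ≫ f).fiberι_asFiber] at h1

theorem exists_dim_fiberStalk_comp_le [IsLocallyNoetherian X] [IsLocallyNoetherian X'] [Surjective g] (x : X) :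
    ∃ x', g x' = x ∧ ringKrullDim (CInt.fiberStalk (g ≫ f) x') ≤ ringKrullDim (CInt.fiberStalk f x) := by
  let s := f x
  let h := CInt.fiberMap g f s
  haveI : Surjective h := MorphismProperty.of_isPullback (P := @Surjective) (isPullback_fiberMap f g s) inferInstance
  obtain ⟨w₀, hw₀⟩ := h.surjective (f.asFiber x)
  obtain ⟨w, hw, hd⟩ := exists_fiberStalk_dim_zero h w₀
  rw [hw₀] at hw
  refine ⟨(g ≫ f).fiberι s w, ?_, ?_⟩
  · rw [← Scheme.Hom.comp_apply, ← fiberMap_fiberι, Scheme.Hom.comp_apply, hw, f.fiberι_asFiber]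
  haveI := isNoetherianRing_stalk_fiber (g ≫ f) w
  haveI := isNoetherianRing_stalk_fiber f (h w)
  have h1 := dim_stalk_le_add h w
  rw [hd, add_zero] at h1
  have h2 := (dim_stalk_fiber (g ≫ f) w).symm.trans_le (h1.trans_eq (dim_stalk_fiber f (h w)))
  rwa [hw, f.fiberι_asFiber] at h2

end Comp

section BaseChange

variable {S' : Scheme.{u}} (g : S' ⟶ S)

/-- The map of fibres induced by a base change. -/
noncomputable def bcFiber (s' : S') : (pullback.snd f g).fiber s' ⟶ f.fiber (g s') :=
  pullback.lift ((pullback.snd f g).fiberι s' ≫ pullback.fst f g)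
    ((pullback.snd f g).fiberToSpecResidueField s' ≫ Spec.map (g.residueFieldMap s'))
    (by
      simp only [Category.assoc, Scheme.Hom.SpecMap_residueFieldMap_fromSpecResidueField,
        pullback.condition]
      exact (pullback.condition_assoc (f := pullback.snd f g) (g := S'.fromSpecResidueField s') g))

theorem bcFiber_fiberι (s' : S') :
    bcFiber f g s' ≫ f.fiberι (g s') = (pullback.snd f g).fiberι s' ≫ pullback.fst f g :=
  pullback.lift_fst _ _ _

theorem flat_bcFiber (s' : S') : Flat (bcFiber f g s') := by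
  have hres : Flat (Spec.map (g.residueFieldMap s')) := by
    rw [HasRingHomProperty.Spec_iff (P := @Flat)]
    algebraize [(g.residueFieldMap s').hom]
    exact (inferInstance : Module.Flat (S.residueField (g s')) (S'.residueField s'))
  refine MorphismProperty.of_isPullback (P := @Flat) (IsPullback.of_right ?_ (pullback.lift_snd _ _ _)
    (IsPullback.of_hasPullback f (S.fromSpecResidueField (g s')))).flip hres
  rw [Scheme.Hom.SpecMap_residueFieldMap_fromSpecResidueField]
  have h := (IsPullback.of_hasPullback (pullback.snd f g) (S'.fromSpecResidueField s')).paste_horiz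
    (IsPullback.of_hasPullback f g)
  rw [pullback.lift_fst]
  exact h

theorem dim_fiberStalk_le_baseChange [IsLocallyNoetherian X] [IsLocallyNoetherian (pullback f g)]
    (x' : ↥(pullback f g)) :
    ringKrullDim (CInt.fiberStalk f (pullback.fst f g x')) ≤
      ringKrullDim (CInt.fiberStalk (pullback.snd f g) x') := by
  let q := pullback.snd f g
  let s' := q x'
  let h := bcFiber f g s'
  let w := q.asFiber x'
  haveI := flat_bcFiber f g s'
  have hw : f.fiberι (g s') (h w) = pullback.fst f g x' := by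
    rw [← Scheme.Hom.comp_apply, bcFiber_fiberι, Scheme.Hom.comp_apply, q.fiberι_asFiber]
  haveI := isNoetherianRing_stalk_fiber q w
  haveI := isNoetherianRing_stalk_fiber f (h w)
  have h1 := (dim_stalk_fiber f (h w)).symm.trans_le ((dim_stalk_le_of_flat h w).trans_eq (dim_stalk_fiber q w))
  rwa [hw, q.fiberι_asFiber] at h1

theorem exists_dim_fiberStalk_baseChange_le [IsLocallyNoetherian X] [IsLocallyNoetherian (pullback f g)]
    (x₀ : ↥(pullback f g)) :
    ∃ x', pullback.fst f g x' = pullback.fst f g x₀ ∧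
      ringKrullDim (CInt.fiberStalk (pullback.snd f g) x') ≤
        ringKrullDim (CInt.fiberStalk f (pullback.fst f g x₀)) := by
  let q := pullback.snd f g
  let s' := q x₀
  let h := bcFiber f g s'
  let w₀ := q.asFiber x₀
  have hw₀ : f.fiberι (g s') (h w₀) = pullback.fst f g x₀ := by
    rw [← Scheme.Hom.comp_apply, bcFiber_fiberι, Scheme.Hom.comp_apply, q.fiberι_asFiber]
  obtain ⟨w, hw, hd⟩ := exists_fiberStalk_dim_zero h w₀
  refine ⟨q.fiberι s' w, ?_, ?_⟩
  · rw [← Scheme.Hom.comp_apply, ← bcFiber_fiberι, Scheme.Hom.comp_apply, hw, hw₀]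
  haveI := isNoetherianRing_stalk_fiber q w
  haveI := isNoetherianRing_stalk_fiber f (h w)
  have h1 := dim_stalk_le_add h w
  rw [hd, add_zero] at h1
  have h2 := (dim_stalk_fiber q w).symm.trans_le (h1.trans_eq (dim_stalk_fiber f (h w)))
  rwa [hw, hw₀] at h2

end BaseChange

end Groth.Agent.LA96
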