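import Groth.Prelude.Def_GrLC
import Mathlib.RingTheory.GradedAlgebra.Basic
import Mathlib.RingTheory.Noetherian.Nilpotent

/-! # Pieces of a ℤ-graded ring in large degree -/

set_option autoImplicit false

universe u

open DirectSum

namespace Groth.Agent.LA96.GrPiece

variable {R A : Type u} [CommRing R] [CommRing A] [Algebra R A]
  {𝒜 : ℤ → Submodule R A} [GradedAlgebra 𝒜]
  {p : ℕ} {f : Fin p → A} {deg : Fin p → ℤ}

theorem expand (hf : ∀ i, f i ∈ 𝒜 (deg i))
    (hgen : Ideal.span {a : A | ∃ n : ℤ, 0 < n ∧ a ∈ 𝒜 n} = Ideal.span (Set.range f))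
    {n : ℤ} (hn : 0 < n) {a : A} (ha : a ∈ 𝒜 n) :
    ∃ b : Fin p → A, (∀ i, b i ∈ 𝒜 (n - deg i)) ∧ ∑ i, b i * f i = a := by
  obtain ⟨c, hc⟩ := (Submodule.mem_span_range_iff_exists_fun A).1
    (hgen.le (Ideal.subset_span ⟨n, hn, ha⟩))
  refine ⟨fun i => (decompose 𝒜 (c i) (n - deg i) : A), fun i => SetLike.coe_mem _, ?_⟩
  have h := congrArg (GradedAlgebra.proj 𝒜 n) hc
  simp only [map_sum, smul_eq_mul, GradedAlgebra.proj_apply, decompose_of_mem_same 𝒜 ha] at h
  refine Eq.trans (Finset.sum_congr rfl fun i _ => ?_) h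
  have := coe_decompose_mul_add_of_right_mem 𝒜 (a := c i) (i := n - deg i) (hf i)
  rw [sub_add_cancel] at this
  exact this.symm

theorem mem_pow_of_large (hdeg : ∀ i, 0 < deg i) (hf : ∀ i, f i ∈ 𝒜 (deg i))
    (hgen : Ideal.span {a : A | ∃ n : ℤ, 0 < n ∧ a ∈ 𝒜 n} = Ideal.span (Set.range f)) :
    ∀ (k : ℕ) (n : ℤ), k * (∑ i, deg i) < n → ∀ a ∈ 𝒜 n, a ∈ Ideal.span (Set.range f) ^ k
  | 0, n, _, a, _ => by simp
  | k + 1, n, hn, a, ha => by
    have hD : (0 : ℤ) ≤ ∑ i, deg i := Finset.sum_nonneg fun i _ => (hdeg i).le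
    have h0 : 0 < n := lt_of_le_of_lt (mul_nonneg (by positivity) hD) hn
    obtain ⟨b, hb, rfl⟩ := expand hf hgen h0 ha
    refine sum_mem fun i _ => ?_
    rw [pow_succ]
    refine Ideal.mul_mem_mul (mem_pow_of_large hdeg hf hgen k _ ?_ _ (hb i)) (Ideal.subset_span ⟨i, rfl⟩)
    have : deg i ≤ ∑ j, deg j := Finset.single_le_sum (fun j _ => (hdeg j).le) (Finset.mem_univ i)
    push_cast at hn
    linarith

theorem pow_piece_le (d : ℤ) (k : ℕ) : 𝒜 d ^ k ≤ 𝒜 (k * d) := by
  induction k with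
  | zero =>
    rw [pow_zero, Nat.cast_zero, zero_mul]
    exact Submodule.one_le.2 (SetLike.one_mem_graded 𝒜)
  | succ k ih =>
    rw [pow_succ, Submodule.mul_le]
    intro a ha b hb
    rw [Nat.cast_succ, add_mul, one_mul]
    exact SetLike.mul_mem_graded (ih ha) hb

theorem piece_eq_mul (hdeg : ∀ i, 0 < deg i) (hf : ∀ i, f i ∈ 𝒜 (deg i))
    (hgen : Ideal.span {a : A | ∃ n : ℤ, 0 < n ∧ a ∈ 𝒜 n} = Ideal.span (Set.range f))
    {d : ℤ} (hdvd : ∀ i, deg i ∣ d) (hd : 0 < d) {N : ℤ} (hN : d * p - ∑ i, deg i < N) :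
    𝒜 N = 𝒜 d * 𝒜 (N - d) := by
  refine le_antisymm ?_ (Submodule.mul_le.2 fun a ha b hb => ?_)
  swap
  · simpa using SetLike.mul_mem_graded ha hb
  have key : ∀ (k : ℕ) (e : Fin p → ℕ), (∀ i, (e i : ℤ) * deg i + deg i ≤ d) →
      (∑ i, (d - e i * deg i).toNat) ≤ k → ∀ a ∈ 𝒜 (N - ∑ i, (e i : ℤ) * deg i),
      (∏ i, f i ^ e i) * a ∈ 𝒜 d * 𝒜 (N - d) := by
    intro k
    induction k using Nat.strong_induction_on with
    | _ k ih =>
      intro e he hk a ha
      have hpos : 0 < N - ∑ i, (e i : ℤ) * deg i := by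
        have h1 : ∑ i, (e i : ℤ) * deg i ≤ ∑ i, (d - deg i) := Finset.sum_le_sum fun i _ => by linarith [he i]
        rw [Finset.sum_sub_distrib, Finset.sum_const, Finset.card_univ, Fintype.card_fin, nsmul_eq_mul] at h1
        linarith
      obtain ⟨b, hb, rfl⟩ := expand hf hgen hpos ha
      rw [Finset.mul_sum]
      refine sum_mem fun i _ => ?_
      let e' := Function.update e i (e i + 1)
      have hi : e' i = e i + 1 := Function.update_self _ _ _
      have hne : ∀ j ∈ Finset.univ.erase i, e' j = e j := fun j hj => Function.update_of_ne (Finset.ne_of_mem_erase hj) _ _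
      have hsum : ∑ j, (e' j : ℤ) * deg j = (∑ j, (e j : ℤ) * deg j) + deg i := by
        rw [← Finset.add_sum_erase _ _ (Finset.mem_univ i), ← Finset.add_sum_erase _ _ (Finset.mem_univ i),
          Finset.sum_congr rfl (g := fun j => (e j : ℤ) * deg j) fun j hj => by rw [hne j hj], hi, Nat.cast_succ]
        ring
      have hprod : (∏ j, f j ^ e j) * (b i * f i) = (∏ j, f j ^ e' j) * b i := by
        rw [← Finset.mul_prod_erase _ _ (Finset.mem_univ i), ← Finset.mul_prod_erase _ (fun j => f j ^ e' j) (Finset.mem_univ i),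
          Finset.prod_congr rfl (s₂ := Finset.univ.erase i) (f := fun j => f j ^ e' j) (g := fun j => f j ^ e j) fun j hj => by rw [hne j hj]]
        simp only [hi, pow_succ]
        ring
      have hbi : b i ∈ 𝒜 (N - ∑ j, (e' j : ℤ) * deg j) := by rw [hsum, ← sub_sub]; exact hb i
      rw [hprod]
      rcases lt_or_ge d ((e' i : ℤ) * deg i + deg i) with hlt | hle
      · obtain ⟨c, hc⟩ := hdvd i
        have hec : (e' i : ℤ) * deg i = d := by
          have h1 := he i
          simp only [e', Function.update_self, Nat.cast_succ] at hlt ⊢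
          subst hc
          have h2 : (e i : ℤ) + 1 ≤ c := le_of_mul_le_mul_left (by linarith [h1]) (hdeg i)
          have h3 : c < (e i : ℤ) + 1 + 1 := lt_of_mul_lt_mul_left (by linarith [hlt]) (hdeg i).le
          obtain rfl : c = (e i : ℤ) + 1 := by omega
          ring
        rw [← Finset.mul_prod_erase _ _ (Finset.mem_univ i), mul_assoc]
        refine Submodule.mul_mem_mul ?_ ?_
        · rw [← hec, ← nsmul_eq_mul]
          exact SetLike.pow_mem_graded _ (hf i)
        · have hP : ∏ j ∈ Finset.univ.erase i, f j ^ e' j ∈ 𝒜 (∑ j ∈ Finset.univ.erase i, (e' j : ℤ) * deg j) := by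
            refine SetLike.prod_mem_graded _ _ _ fun j _ => ?_
            rw [← nsmul_eq_mul]
            exact SetLike.pow_mem_graded _ (hf j)
          have := SetLike.mul_mem_graded hP hbi
          have heq : (∑ j ∈ Finset.univ.erase i, (e' j : ℤ) * deg j) + (N - ∑ j, (e' j : ℤ) * deg j) = N - d := by
            rw [← Finset.add_sum_erase _ (fun j => (e' j : ℤ) * deg j) (Finset.mem_univ i), hec]; ring
          rwa [heq] at this
      · have he' : ∀ j, (e' j : ℤ) * deg j + deg j ≤ d := fun j => by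
          by_cases hj : j = i
          · subst hj; exact hle
          · simp only [e', Function.update_of_ne hj]; exact he j
        refine ih _ (lt_of_lt_of_le ?_ hk) e' he' le_rfl _ hbi
        refine Finset.sum_lt_sum (fun j _ => ?_) ⟨i, Finset.mem_univ _, ?_⟩
        · by_cases hj : j = i
          · subst hj
            simp only [e', Function.update_self, Nat.cast_succ]
            refine Int.toNat_le_toNat ?_
            nlinarith [hdeg j]
          · simp only [e', Function.update_of_ne hj]; rfl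
        · simp only [e', Function.update_self, Nat.cast_succ]
          have h1 := he i
          have h2 := hdeg i
          have h3 : 0 < d - (e i : ℤ) * deg i := by linarith
          have h4 : d - ((e i : ℤ) + 1) * deg i < d - (e i : ℤ) * deg i := by linarith
          omega
  intro a ha
  have := key _ (fun _ => 0) (fun i => by simpa using Int.le_of_dvd hd (hdvd i)) le_rfl a (by simpa using ha)
  simpa using this

theorem gam_tfae (hdeg : ∀ i, 0 < deg i) (hf : ∀ i, f i ∈ 𝒜 (deg i))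
    (hgen : Ideal.span {a : A | ∃ n : ℤ, 0 < n ∧ a ∈ 𝒜 n} = Ideal.span (Set.range f))
    {d : ℤ} (hd : 0 < d) (hdvd : ∀ i, deg i ∣ d) {M : Type u} [AddCommGroup M] [Module A M] (x : M) :
    [x ∈ GrLC.gam (Ideal.span (Set.range f)) M,
     ∃ n₀ : ℕ, ∀ n : ℕ, n₀ ≤ n → ∀ r ∈ (𝒜 d) ^ n, r • x = 0,
     ∃ s : ℤ, ∀ n : ℤ, s ≤ n → ∀ r ∈ 𝒜 n, r • x = 0].TFAE := by
  tfae_have 1 → 3 := by
    rintro ⟨k, hk⟩
    exact ⟨k * (∑ i, deg i) + 1, fun n hn r hr => hk r (mem_pow_of_large hdeg hf hgen k n (by omega) r hr)⟩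
  tfae_have 3 → 2 := by
    rintro ⟨s, hs⟩
    refine ⟨s.toNat, fun n hn r hr => hs (n * d) ?_ r (pow_piece_le d n hr)⟩
    have : (n : ℤ) ≤ n * d := le_mul_of_one_le_right (by positivity) (by omega)
    omega
  tfae_have 2 → 1 := by
    rintro ⟨n₀, h⟩
    let J : Ideal A := (Submodule.span A {x}).annihilator
    have hle : Ideal.span (Set.range f) ≤ J.radical := by
      rw [Ideal.span_le]
      rintro _ ⟨i, rfl⟩
      obtain ⟨c, hc⟩ := hdvd i
      have hc0 : 0 ≤ c := by nlinarith [hdeg i]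
      refine ⟨c.toNat * n₀, ?_⟩
      rw [Submodule.mem_annihilator_span_singleton, pow_mul]
      refine h n₀ le_rfl _ (Submodule.pow_mem_pow _ ?_ n₀)
      have h1 := SetLike.pow_mem_graded c.toNat (hf i)
      rwa [nsmul_eq_mul, Int.toNat_of_nonneg hc0, mul_comm, ← hc] at h1
    obtain ⟨k, hk⟩ := Ideal.exists_pow_le_of_le_radical_of_fg hle (Submodule.fg_span (Set.finite_range f))
    exact ⟨k, fun r hr => (Submodule.mem_annihilator_span_singleton _ _).1 (hk hr)⟩
  tfae_finish

end Groth.Agent.LA96.GrPiece
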