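import Mathlib.Order.CompleteLattice.Basic

/-! # Infima over preimages -/

set_option autoImplicit false

namespace Groth.Agent.LA96

variable {α β γ : Type*} [CompleteLattice γ]

theorem iInf_subset_le_preimage (F : α → γ) (G : β → γ) (φ : β → α) (Y : Set α) (h : ∀ b, F (φ b) ≤ G b) :
    ⨅ y : Y, F y.1 ≤ ⨅ b : φ ⁻¹' Y, G b.1 :=
  le_iInf fun b => iInf_le_of_le ⟨φ b.1, b.2⟩ (h b.1)

theorem iInf_preimage_le_subset (F : α → γ) (G : β → γ) (φ : β → α) (Y : Set α)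
    (h : ∀ a ∈ Y, ∃ b, φ b = a ∧ G b ≤ F a) : ⨅ b : φ ⁻¹' Y, G b.1 ≤ ⨅ y : Y, F y.1 :=
  le_iInf fun y => by
    obtain ⟨b, hb, hle⟩ := h y.1 y.2
    exact iInf_le_of_le ⟨b, show φ b ∈ Y from hb.symm ▸ y.2⟩ hle

end Groth.Agent.LA96
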