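import Groth.Agent.Koszul15.Basic
import Groth.Prelude.Def_CAlg
import Groth.Agent.Alg6.AssDepth
import Mathlib

/-! # Koszul cohomology and depth -/

set_option autoImplicit false
set_option linter.style.haveILetI false

universe u

open CategoryTheory CategoryTheory.Limits CochainComplex

namespace Groth.Agent.LA96.KoszulDepth

open Groth.Agent.Koszul15

variable {A : Type u} [CommRing A]

local notation "K(" fs ", " M ")" => CohIII.koszulCx M fs

/-- The bottom degree. -/
theorem exists_bottom (M : ModuleCat.{u} A) : ∀ (fs : List A), ∃ ι : M ⟶ K(fs, M).X (-(fs.length : ℤ)),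
    Function.Injective ι ∧ ∀ z : M, (∀ f ∈ fs, f • z = 0) → ∀ j, K(fs, M).d (-(fs.length : ℤ)) j (ι z) = 0
  | [] => by
    refine ⟨(HomologicalComplex.singleObjXSelf (ComplexShape.up ℤ) 0 M).inv,
      (HomologicalComplex.singleObjXSelf (ComplexShape.up ℤ) 0 M).toLinearEquiv.symm.injective, fun z _ j => ?_⟩
    have h : K(([] : List A), M).d (-((([] : List A).length : ℕ) : ℤ)) j = 0 :=
      HomologicalComplex.single_obj_d (ComplexShape.up ℤ) 0 M _ j
    rw [h]
    rfl
  | f :: fs => by
    obtain ⟨ι, hι, hd⟩ := exists_bottom M fs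
    let φ := f • 𝟙 K(fs, M)
    have hlen : -((f :: fs).length : ℤ) + 1 = -(fs.length : ℤ) := by simp
    refine ⟨ι ≫ (mappingCone.inl φ).v (-(fs.length : ℤ)) (-((f :: fs).length : ℤ)) (by omega), ?_, fun z hz j => ?_⟩
    · intro a b hab
      refine hι ?_
      have h1 : ∀ w, (mappingCone.fst φ).1.v (-((f :: fs).length : ℤ)) (-(fs.length : ℤ)) hlen
          ((mappingCone.inl φ).v (-(fs.length : ℤ)) (-((f :: fs).length : ℤ)) (by omega) w) = w := fun w =>
        ConcreteCategory.congr_hom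
          (mappingCone.inl_v_fst_v φ (-(fs.length : ℤ)) (-((f :: fs).length : ℤ)) hlen) w
      have h2 := congrArg (fun w => (mappingCone.fst φ).1.v (-((f :: fs).length : ℤ)) (-(fs.length : ℤ)) hlen w) hab
      exact (h1 _).symm.trans (h2.trans (h1 _))
    · by_cases hj : -((f :: fs).length : ℤ) + 1 = j
      · obtain rfl : j = -(fs.length : ℤ) := by omega
        have h2 := ConcreteCategory.congr_hom (mappingCone.inl_v_d φ (-(fs.length : ℤ)) (-((f :: fs).length : ℤ))
          (-(fs.length : ℤ) + 1) (by omega) (by omega)) (ι z)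
        refine h2.trans ?_
        show (φ.f (-(fs.length : ℤ)) ≫ (mappingCone.inr φ).f _) (ι z) -
          (K(fs, M).d (-(fs.length : ℤ)) (-(fs.length : ℤ) + 1) ≫ (mappingCone.inl φ).v _ _ _) (ι z) = 0
        rw [ConcreteCategory.comp_apply, ConcreteCategory.comp_apply,
          hd z (fun g hg => hz g (List.mem_cons_of_mem _ hg))]
        have h3 : φ.f (-(fs.length : ℤ)) (ι z) = 0 := by
          show f • (ι z) = 0
          rw [← map_smul, hz f List.mem_cons_self, map_zero]
        rw [h3, map_zero, map_zero, sub_zero]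
      · rw [HomologicalComplex.shape _ _ _ hj]
        rfl

theorem not_isZero_bottom {M : ModuleCat.{u} A} (fs : List A) {z : M} (hz0 : z ≠ 0) (hz : ∀ f ∈ fs, f • z = 0) :
    ¬ IsZero (K(fs, M).homology (-(fs.length : ℤ))) := by
  intro h
  obtain ⟨ι, hι, hd⟩ := exists_bottom M fs
  let n : ℤ := -(fs.length : ℤ)
  have hex : (K(fs, M).sc' (n - 1) n (n + 1)).Exact :=
    (K(fs, M).exactAt_iff' (n - 1) n (n + 1) (by simp) (by simp)).1
      ((HomologicalComplex.exactAt_iff_isZero_homology _ n).2 h)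
  obtain ⟨y, hy⟩ := ((ShortComplex.moduleCat_exact_iff _).1 hex) (ι z) (hd z hz _)
  haveI : Subsingleton (K(fs, M).X (n - 1)) :=
    ModuleCat.subsingleton_of_isZero (isZero_X M fs (n - 1) (Or.inr (by simp only [n]; omega)))
  refine hz0 (hι ?_)
  rw [map_zero, ← hy]
  exact (congrArg _ (@Subsingleton.elim _ ‹_› y 0)).trans (map_zero _)

variable [IsNoetherianRing A]

theorem exists_annihilated {M : Type u} [AddCommGroup M] [Module A M] [Module.Finite A M] [Nontrivial M]
    (a : Ideal A) (h : ∀ x ∈ a, ¬ IsSMulRegular M x) : ∃ z : M, z ≠ 0 ∧ ∀ f ∈ a, f • z = 0 := by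
  have hsub : (a : Set A) ⊆ ⋃ p ∈ associatedPrimes A M, (p : Set A) := by
    rw [biUnion_associatedPrimes_eq_compl_regular]
    exact fun x hx => h x hx
  obtain ⟨p, hp, hle⟩ := (Ideal.subset_union_prime_finite (associatedPrimes.finite A M) 0 0
    (fun p hp _ _ => hp.isPrime)).1 hsub
  obtain ⟨hpp, z, hz⟩ := Alg6.mem_ass_iff.1 hp
  refine ⟨z, fun h0 => hpp.ne_top ((Ideal.eq_top_iff_one p).2 ((hz 1).2 (by rw [h0, smul_zero]))), fun f hf => ?_⟩
  exact (hz f).1 (hle hf)

/-- Vanishing below a weakly regular sequence and non-vanishing at a maximal one. -/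
theorem vanish_and_ne (fs : List A) : ∀ (rs : List A) (M : ModuleCat.{u} A) [Module.Finite A M],
    RingTheory.Sequence.IsWeaklyRegular M rs → (∀ r ∈ rs, r ∈ Ideal.span {x | x ∈ fs}) →
    (∀ q : ℤ, q < (rs.length : ℤ) - fs.length → IsZero (K(fs, M).homology q)) ∧
      (∀ [Nontrivial (M ⧸ Ideal.ofList rs • (⊤ : Submodule A M))],
        (∀ x ∈ Ideal.span {x | x ∈ fs}, ¬ IsSMulRegular (M ⧸ Ideal.ofList rs • (⊤ : Submodule A M)) x) →
        ¬ IsZero (K(fs, M).homology ((rs.length : ℤ) - fs.length))) := by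
  intro rs
  induction rs with
  | nil =>
    intro M _ _ _
    refine ⟨fun q hq => ShortComplex.isZero_homology_of_isZero_X₂ _ (isZero_X M fs q (Or.inr (by simpa using hq))),
      @fun _ h => ?_⟩
    let e : (M ⧸ Ideal.ofList ([] : List A) • (⊤ : Submodule A M)) ≃ₗ[A] M :=
      Submodule.quotEquivOfEqBot _ (by simp)
    haveI : Nontrivial M := e.symm.toEquiv.nontrivial
    obtain ⟨z, hz0, hz⟩ := exists_annihilated (M := M) (Ideal.span {x | x ∈ fs})
      fun x hx hr => h x hx ((e.isSMulRegular_congr x).2 hr)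
    simpa using not_isZero_bottom fs hz0 fun f hf => hz f (Ideal.subset_span hf)
  | cons r rs ih =>
    intro M _ hreg hmem
    rw [RingTheory.Sequence.isWeaklyRegular_cons_iff] at hreg
    let M' : ModuleCat.{u} A := ModuleCat.of A (QuotSMulTop r M)
    let π : M ⟶ M' := ModuleCat.ofHom (Y := QuotSMulTop r M) (Submodule.mkQ _)
    have hz : (r • 𝟙 M) ≫ π = 0 := ModuleCat.hom_ext (LinearMap.ext fun x =>
      (Submodule.Quotient.mk_eq_zero _).2 (Submodule.smul_mem_pointwise_smul x r ⊤ trivial))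
    have hS : (ShortComplex.mk _ _ hz).ShortExact :=
      { exact := (ShortComplex.ShortExact.moduleCat_exact_iff_function_exact _).2 fun x => by
          refine ⟨fun hx => ?_, ?_⟩
          · obtain ⟨y, -, hy⟩ := Submodule.mem_map.1 ((Submodule.Quotient.mk_eq_zero _).1 hx)
            exact ⟨y, hy⟩
          · rintro ⟨y, rfl⟩
            exact ConcreteCategory.congr_hom hz y
        mono_f := (ModuleCat.mono_iff_injective _).2 fun a b h => hreg.1 h
        epi_g := (ModuleCat.epi_iff_surjective _).2 (Submodule.mkQ_surjective _) }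
    obtain ⟨hz', hK⟩ := kmap_shortExact _ _ hz hS fs
    haveI : Module.Finite A M' := inferInstanceAs (Module.Finite A (QuotSMulTop r M))
    obtain ⟨hvan, hne⟩ := ih M' hreg.2 fun x hx => hmem x (List.mem_cons_of_mem _ hx)
    obtain ⟨H⟩ := homotopy_of_mem M fs r (hmem r List.mem_cons_self)
    have h0 : ∀ q, HomologicalComplex.homologyMap (kmap (r • 𝟙 M) fs) q = 0 := fun q => by
      rw [kmap_smul, H.homologyMap_eq, HomologicalComplex.homologyMap_zero]
    have hzero : ∀ q : ℤ, q < ((r :: rs).length : ℤ) - fs.length → IsZero (K(fs, M).homology q) := by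
      intro q hq
      rw [List.length_cons, Nat.cast_succ] at hq
      have hex := hK.homology_exact₁ (q - 1) q (by simp)
      have hm := hex.mono_g ((hvan (q - 1) (by omega)).eq_of_src _ _)
      rw [IsZero.iff_id_eq_zero]
      haveI : Mono (HomologicalComplex.homologyMap (kmap (r • 𝟙 M) fs) q) := hm
      rw [← cancel_mono (HomologicalComplex.homologyMap (kmap (r • 𝟙 M) fs) q), zero_comp, h0, comp_zero]
    refine ⟨hzero, @fun _ h hnz => ?_⟩
    let e : (M' ⧸ Ideal.ofList rs • (⊤ : Submodule A M')) ≃ₗ[A] M ⧸ Ideal.ofList (r :: rs) • (⊤ : Submodule A M) :=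
      (Submodule.quotOfListConsSMulTopEquivQuotSMulTopInner M r rs).symm
    haveI : Nontrivial (M' ⧸ Ideal.ofList rs • (⊤ : Submodule A M')) := e.toEquiv.nontrivial
    refine hne (fun x hx hr => h x hx ((e.isSMulRegular_congr x).1 hr)) ?_
    rw [List.length_cons, Nat.cast_succ] at hnz
    have hex := hK.homology_exact₃ ((rs.length : ℤ) - fs.length) ((rs.length : ℤ) + 1 - fs.length) (by simp; omega)
    refine hex.isZero_X₂ ((hzero _ ?_).eq_of_src _ _) (hnz.eq_of_tgt _ _)
    simp

theorem main [IsLocalRing A] (M : Type u) [AddCommGroup M] [Module A M] [Module.Finite A M] [Nontrivial M]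
    (xs : List A) (hxs : ∀ x ∈ xs, x ∈ IsLocalRing.maximalIdeal A) :
    LocCoh.idealDepth (Ideal.span {x | x ∈ xs}) M ≤ xs.length ∧
      (∀ p : ℕ, (p : ℕ∞) < LocCoh.idealDepth (Ideal.span {x | x ∈ xs}) M → IsZero (CohIII.koszulH xs (ModuleCat.of A M) p)) ∧
      (∀ r : ℕ, LocCoh.idealDepth (Ideal.span {x | x ∈ xs}) M = r → ¬ IsZero (CohIII.koszulH xs (ModuleCat.of A M) r)) := by
  classical
  set a := Ideal.span {x | x ∈ xs}
  have ha : a ≤ IsLocalRing.maximalIdeal A := Ideal.span_le.2 hxs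
  have hne : ∀ I : Ideal A, I ≤ IsLocalRing.maximalIdeal A → I • (⊤ : Submodule A M) ≠ ⊤ := fun I hI h =>
    top_ne_bot (α := Submodule A M) (Submodule.eq_bot_of_le_smul_of_le_jacobson_bot I ⊤ Module.Finite.fg_top h.ge
      (hI.trans (IsLocalRing.maximalIdeal_le_jacobson _)))
  have hdef : LocCoh.idealDepth a M = ⨆ (rs : List A) (_ : RingTheory.Sequence.IsWeaklyRegular M rs ∧ ∀ r ∈ rs, r ∈ a),
      (rs.length : ℕ∞) := by
    rw [LocCoh.idealDepth, if_neg (hne a ha)]
  have hvan := fun rs (h : RingTheory.Sequence.IsWeaklyRegular M rs ∧ ∀ r ∈ rs, r ∈ a) =>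
    vanish_and_ne xs rs (ModuleCat.of A M) h.1 h.2
  have hlen : ∀ rs, RingTheory.Sequence.IsWeaklyRegular M rs ∧ (∀ r ∈ rs, r ∈ a) → rs.length ≤ xs.length := by
    intro rs h
    by_contra hc
    obtain ⟨e⟩ := nonempty_top_equiv xs (ModuleCat.of A M)
    haveI : Subsingleton ((CohIII.koszulCx (ModuleCat.of A M) xs).homology 0) :=
      ModuleCat.subsingleton_of_isZero ((hvan rs h).1 0 (by omega))
    exact hne (Ideal.ofList xs) ha (Submodule.Quotient.subsingleton_iff.1 e.symm.toEquiv.subsingleton)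
  refine ⟨?_, fun p hp => ?_, fun r hr => ?_⟩
  · rw [hdef]
    exact iSup₂_le fun rs h => by exact_mod_cast hlen rs h
  · rw [hdef, lt_iSup_iff] at hp
    obtain ⟨rs, hrs⟩ := hp
    rw [lt_iSup_iff] at hrs
    obtain ⟨h, hlt⟩ := hrs
    exact (hvan rs h).1 _ (by have : p < rs.length := by exact_mod_cast hlt
                              omega)
  · obtain ⟨rs, h, hrl⟩ : ∃ rs, (RingTheory.Sequence.IsWeaklyRegular M rs ∧ ∀ x ∈ rs, x ∈ a) ∧ rs.length = r := by
      rcases Nat.eq_zero_or_pos r with rfl | hr0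
      · exact ⟨[], ⟨RingTheory.Sequence.IsWeaklyRegular.nil A M, by simp⟩, rfl⟩
      by_contra hc
      push Not at hc
      have : LocCoh.idealDepth a M ≤ (r - 1 : ℕ) := by
        rw [hdef]
        refine iSup₂_le fun rs h => ?_
        have h1 : (rs.length : ℕ∞) ≤ r := hr ▸ hdef ▸ le_iSup₂ (f := fun (rs : List A) _ => (rs.length : ℕ∞)) rs h
        have h2 := hc rs h
        have h3 : rs.length ≤ r := by exact_mod_cast h1
        exact_mod_cast (by omega : rs.length ≤ r - 1)
      rw [hr] at this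
      have h4 : r ≤ r - 1 := by exact_mod_cast this
      omega
    haveI : Nontrivial (M ⧸ Ideal.ofList rs • (⊤ : Submodule A M)) :=
      Submodule.Quotient.nontrivial_iff.2 (hne _ (Ideal.span_le.2 fun x hx => ha (h.2 x hx)))
    subst hrl
    refine (hvan rs h).2 fun x hx hreg => ?_
    have h5 : ((rs ++ [x]).length : ℕ∞) ≤ (rs.length : ℕ∞) := by
      refine hr ▸ hdef ▸ le_iSup₂ (f := fun (rs : List A) _ => (rs.length : ℕ∞)) (rs ++ [x]) ⟨?_, ?_⟩
      · rw [RingTheory.Sequence.isWeaklyRegular_append_iff, RingTheory.Sequence.isWeaklyRegular_singleton_iff]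
        exact ⟨h.1, hreg⟩
      · intro y hy
        rw [List.mem_append, List.mem_singleton] at hy
        rcases hy with hy | rfl
        exacts [h.2 y hy, hx]
    have h6 : (rs ++ [x]).length ≤ rs.length := by exact_mod_cast h5
    simp at h6

end Groth.Agent.LA96.KoszulDepth
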