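import Mathlib
import Groth.Agent.LC.ExtDim
import Groth.Agent.S2085
import Groth.Agent.FlatLoc6.SerreNormal

/-! # Homogeneous localisations at homogeneous primes inside the full localisation -/

set_option autoImplicit false
set_option linter.style.haveILetI false
set_option maxHeartbeats 1000000

universe u

open DirectSum IsLocalRing

namespace Groth.Agent.LA96.ProjStalk

variable {A : Type u} [CommRing A] (𝒜 : ℕ → AddSubgroup A) [GradedRing 𝒜]

/-- The properties of the degree zero part of a localisation that are used. -/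
structure GoodSub (p : Ideal A) [p.IsPrime] {R : Type u} [CommRing R] (ι : R →+* Localization.AtPrime p) : Prop where
  pure : ∀ J : Ideal R, (J.map ι).comap ι = J
  homog : ∀ (i : ℕ), ∀ a ∈ 𝒜 i, ∃ (h : R) (k : ℕ) (w : Localization.AtPrime p), 0 < k ∧ IsUnit w ∧
    ι h = algebraMap A (Localization.AtPrime p) a ^ k * w
  frac : ∀ h : R, ∃ (i : ℕ) (x : A) (w : Localization.AtPrime p), x ∈ 𝒜 i ∧ IsUnit w ∧
    ι h = algebraMap A (Localization.AtPrime p) x * w

theorem GoodSub.comp_equiv {p : Ideal A} [p.IsPrime] {R R' : Type u} [CommRing R] [CommRing R']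
    {ι : R →+* Localization.AtPrime p} (hG : GoodSub 𝒜 p ι) (e : R' ≃+* R) :
    GoodSub 𝒜 p (ι.comp e.toRingHom) where
  pure J := by
    rw [← Ideal.map_map, ← Ideal.comap_comap, hG.pure]
    exact Ideal.comap_map_of_bijective e.toRingHom e.bijective
  homog i a ha := by
    obtain ⟨h, k, w, hk, hw, he⟩ := hG.homog i a ha
    exact ⟨e.symm h, k, w, hk, hw, by simpa using he⟩
  frac h := hG.frac (e h)

theorem goodSub_atPrime (p : Ideal A) [p.IsPrime] {d : ℕ} (hd : 0 < d) {f : A} (hf : f ∈ 𝒜 d) (hfp : f ∉ p) :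
    GoodSub 𝒜 p (algebraMap (HomogeneousLocalization.AtPrime 𝒜 p) (Localization.AtPrime p)) where
  pure J := by
    refine le_antisymm (fun h hh => ?_) Ideal.le_comap_map
    classical
    let L := Localization.AtPrime p
    let φ := algebraMap A L
    rw [Ideal.mem_comap] at hh
    obtain ⟨n, c, g, hg⟩ := Submodule.mem_span_set'.1 hh
    choose j hj hjg using fun k => (g k).2
    obtain ⟨r₀, hr₀⟩ := HomogeneousLocalization.mk_surjective h
    choose r hr using fun k => HomogeneousLocalization.mk_surjective (j k)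
    have hval : ∀ q : HomogeneousLocalization.NumDenSameDeg 𝒜 p.primeCompl,
        algebraMap (HomogeneousLocalization.AtPrime 𝒜 p) L (HomogeneousLocalization.mk q) * φ (q.den : A) =
          φ (q.num : A) := fun q => by
      rw [HomogeneousLocalization.algebraMap_apply, HomogeneousLocalization.val_mk, Localization.mk_eq_mk']
      exact IsLocalization.mk'_spec' L (q.num : A) (⟨q.den, q.den_mem⟩ : p.primeCompl) ▸ mul_comm _ _
    let D : A := ∏ k, ((r k).den : A)
    let E : ℕ := ∑ k, (r k).deg
    have hD : D ∈ 𝒜 E := SetLike.prod_mem_graded _ _ _ fun k _ => (r k).den.2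
    let T : A := (r₀.den : A) * D
    have hT : T ∈ 𝒜 (r₀.deg + E) := SetLike.mul_mem_graded r₀.den.2 hD
    have hTp : T ∈ p.primeCompl := mul_mem r₀.den_mem (prod_mem fun k _ => (r k).den_mem)
    let X : A := (r₀.num : A) * D
    have hX : X ∈ 𝒜 (r₀.deg + E) := SetLike.mul_mem_graded r₀.num.2 hD
    let Y : Fin n → A := fun k => (r₀.den : A) * ((r k).num * ∏ l ∈ Finset.univ.erase k, ((r l).den : A))
    have hY : ∀ k, Y k ∈ 𝒜 (r₀.deg + E) := fun k => by
      refine SetLike.mul_mem_graded r₀.den.2 ?_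
      show _ ∈ 𝒜 (∑ l, (r l).deg)
      rw [← Finset.add_sum_erase _ _ (Finset.mem_univ k)]
      exact SetLike.mul_mem_graded (r k).num.2 (SetLike.prod_mem_graded _ _ _ fun l _ => (r l).den.2)
    have hXe : algebraMap (HomogeneousLocalization.AtPrime 𝒜 p) L h * φ T = φ X := by
      simp only [T, X, map_mul]
      rw [← mul_assoc, ← hr₀, hval]
    have hYe : ∀ k, algebraMap (HomogeneousLocalization.AtPrime 𝒜 p) L (j k) * φ T = φ (Y k) := fun k => by
      simp only [T, D, Y, map_mul]
      rw [← Finset.mul_prod_erase _ _ (Finset.mem_univ k), map_mul, ← hval (r k), hr k]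
      ring
    obtain ⟨s, hs⟩ := IsLocalization.exist_integer_multiples_of_finite p.primeCompl c
    choose c' hc' using hs
    have hc'' : ∀ k, φ (c' k) = φ (s : A) * c k := fun k => by rw [← Algebra.smul_def]; exact hc' k
    have he : φ ((s : A) * X) = φ (∑ k, c' k * Y k) := by
      rw [map_mul φ (s : A) X, map_sum, ← hXe, ← hg, Finset.sum_mul, Finset.mul_sum]
      refine Finset.sum_congr rfl fun k _ => ?_
      rw [map_mul φ (c' k) (Y k), hc'', ← hYe, smul_eq_mul, ← hjg k]
      ring
    obtain ⟨u, hu⟩ := (IsLocalization.eq_iff_exists p.primeCompl L).1 he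
    let S : A := (u : A) * (s : A)
    have hS : S ∈ p.primeCompl := mul_mem u.2 s.2
    obtain ⟨i, hi⟩ : ∃ i, (decompose 𝒜 S i : A) ∉ p := by
      by_contra! hc
      exact hS (by rw [← DirectSum.sum_support_decompose 𝒜 S]; exact sum_mem fun i _ => hc i)
    let Si : A := (decompose 𝒜 S i : A)
    let C : Fin n → A := fun k => (decompose 𝒜 ((u : A) * c' k) i : A)
    have hcomp : Si * X = ∑ k, C k * Y k := by
      have h1 := congrArg (GradedRing.proj 𝒜 (i + (r₀.deg + E)))
        (show S * X = ∑ k, ((u : A) * c' k) * Y k by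
          rw [show S * X = (u : A) * ((s : A) * X) from mul_assoc _ _ _, hu, Finset.mul_sum]
          simp only [mul_assoc])
      simp only [map_sum, GradedRing.proj_apply, coe_decompose_mul_add_of_right_mem 𝒜 hX,
        coe_decompose_mul_add_of_right_mem 𝒜 (hY _)] at h1
      exact h1
    let dk : Fin n → HomogeneousLocalization.AtPrime 𝒜 p := fun k =>
      HomogeneousLocalization.mk ⟨i, ⟨C k, SetLike.coe_mem _⟩, ⟨Si, SetLike.coe_mem _⟩, hi⟩
    have hfin : h = ∑ k, dk k * j k := by
      apply HomogeneousLocalization.val_injective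
      rw [← HomogeneousLocalization.algebraMap_apply, ← HomogeneousLocalization.algebraMap_apply, map_sum]
      refine ((IsLocalization.map_units L (⟨T, hTp⟩ : p.primeCompl)).mul
        (IsLocalization.map_units L (⟨Si, hi⟩ : p.primeCompl))).mul_right_cancel ?_
      rw [← mul_assoc, hXe, ← map_mul, mul_comm X Si, hcomp, map_sum, Finset.sum_mul]
      refine Finset.sum_congr rfl fun k _ => ?_
      have e1 : algebraMap _ L (dk k) * φ Si = φ (C k) :=
        hval ⟨i, ⟨C k, SetLike.coe_mem _⟩, ⟨Si, SetLike.coe_mem _⟩, hi⟩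
      show φ (C k * Y k) = algebraMap _ L (dk k * j k) * (φ T * φ Si)
      rw [map_mul φ (C k) (Y k), map_mul (algebraMap _ L) (dk k) (j k), ← hYe k, ← e1]
      ring
    rw [hfin]
    exact sum_mem fun k _ => J.mul_mem_left _ (hj k)
  homog i a ha := by
    refine ⟨HomogeneousLocalization.mk ⟨d * i, ⟨a ^ d, ?_⟩, ⟨f ^ i, ?_⟩, ?_⟩, d,
      IsLocalization.mk' _ 1 (⟨f ^ i, Submonoid.pow_mem _ hfp i⟩ : p.primeCompl), hd, ?_, ?_⟩
    · simpa using SetLike.pow_mem_graded d ha
    · simpa [mul_comm] using SetLike.pow_mem_graded i hf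
    · exact Submonoid.pow_mem _ hfp i
    · exact IsUnit.of_mul_eq_one _ ((IsLocalization.mk'_spec _ 1 (⟨f ^ i, Submonoid.pow_mem _ hfp i⟩ : p.primeCompl)).trans (map_one _))
    · rw [HomogeneousLocalization.algebraMap_apply, HomogeneousLocalization.val_mk, Localization.mk_eq_mk',
        ← map_pow, IsLocalization.mul_mk'_eq_mk'_of_mul, mul_one]
  frac h := by
    obtain ⟨q, rfl⟩ := HomogeneousLocalization.mk_surjective h
    refine ⟨q.deg, q.num, IsLocalization.mk' _ 1 (⟨q.den, q.den_mem⟩ : p.primeCompl), q.num.2, ?_, ?_⟩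
    · exact IsUnit.of_mul_eq_one _ ((IsLocalization.mk'_spec _ 1 (⟨q.den, q.den_mem⟩ : p.primeCompl)).trans (map_one _))
    · rw [HomogeneousLocalization.algebraMap_apply, HomogeneousLocalization.val_mk, Localization.mk_eq_mk',
        IsLocalization.mul_mk'_eq_mk'_of_mul, mul_one]

end Groth.Agent.LA96.ProjStalk
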