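import Mathlib
import Groth.Agent.LA96.ProjStalk
import Groth.Agent.Synt29.CIKernel

/-! # Properties inherited by the degree zero part -/

set_option autoImplicit false
set_option linter.style.haveILetI false
set_option maxHeartbeats 1000000

universe u

open DirectSum IsLocalRing

namespace Groth.Agent.LA96.ProjStalk

variable {A : Type u} [CommRing A] {𝒜 : ℕ → AddSubgroup A} [GradedRing 𝒜] {p : Ideal A} [p.IsPrime]
  {R : Type u} [CommRing R] {ι : R →+* Localization.AtPrime p}

omit [GradedRing 𝒜] in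
theorem GoodSub.injective (hG : GoodSub 𝒜 p ι) : Function.Injective ι := by
  rw [RingHom.injective_iff_ker_eq_bot, RingHom.ker_eq_comap_bot, ← Ideal.map_bot (f := ι), hG.pure]

omit [GradedRing 𝒜] in
theorem GoodSub.isLocalHom (hG : GoodSub 𝒜 p ι) : IsLocalHom ι := ⟨fun h hu => by
  rw [← Ideal.span_singleton_eq_top, ← hG.pure (Ideal.span {h}), Ideal.map_span, Set.image_singleton,
    Ideal.span_singleton_eq_top.2 hu, Ideal.comap_top]⟩

omit [GradedRing 𝒜] in
theorem GoodSub.isNoetherianRing [IsNoetherianRing A] (hG : GoodSub 𝒜 p ι) : IsNoetherianRing R := by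
  have hm : StrictMono (Ideal.map ι) := fun I J hIJ => lt_of_le_of_ne (Ideal.map_mono hIJ.le) fun he =>
    hIJ.ne (by rw [← hG.pure I, he, hG.pure])
  exact isNoetherian_iff'.2 hm.wellFoundedGT

omit [GradedRing 𝒜] in
theorem GoodSub.isDomain [IsDomain (Localization.AtPrime p)] (hG : GoodSub 𝒜 p ι) : IsDomain R :=
  hG.injective.isDomain

theorem isIntegrallyClosed_of_pure_aux {R L : Type u} (K F : Type u) [CommRing R] [CommRing L] [IsDomain L] [IsDomain R]
    [Field K] [Algebra R K] [IsFractionRing R K] [Field F] [Algebra L F] [IsFractionRing L F]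
    [IsIntegrallyClosed L] (ι : R →+* L) (hinj₀ : Function.Injective ι)
    (hpure : ∀ J : Ideal R, (J.map ι).comap ι = J) : IsIntegrallyClosed R := by
  refine (isIntegrallyClosed_iff K).2 fun {z} hz => ?_
  have hinj : Function.Injective ((algebraMap L F).comp ι) :=
    (IsFractionRing.injective L F).comp hinj₀
  let g : K →+* F := IsFractionRing.lift hinj
  have hgc : g.comp (algebraMap R K) = (algebraMap L F).comp ι :=
    RingHom.ext fun r => IsFractionRing.lift_algebraMap hinj r
  have hgz : IsIntegral L (g z) := by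
    obtain ⟨P, hP, hPz⟩ := hz
    refine ⟨P.map ι, hP.map ι, ?_⟩
    rw [Polynomial.eval₂_map, ← hgc, ← Polynomial.hom_eval₂, hPz, map_zero]
  obtain ⟨l, hl⟩ := IsIntegrallyClosed.isIntegral_iff.1 hgz
  obtain ⟨a, b, hb, rfl⟩ := IsFractionRing.div_surjective R z
  have hb0 : algebraMap R K b ≠ 0 :=
    IsFractionRing.to_map_ne_zero_of_mem_nonZeroDivisors hb
  have hab : ι a ∈ (Ideal.span {b}).map ι := by
    rw [Ideal.map_span, Set.image_singleton, Ideal.mem_span_singleton']
    refine ⟨l, IsFractionRing.injective L F ?_⟩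
    have h1 : g (algebraMap R _ b) = algebraMap L _ (ι b) := RingHom.congr_fun hgc b
    have h2 : g (algebraMap R _ a) = algebraMap L _ (ι a) := RingHom.congr_fun hgc a
    rw [map_mul, hl, ← h1, ← h2, ← map_mul, div_mul_cancel₀ _ hb0]
  obtain ⟨c, hc⟩ := Ideal.mem_span_singleton'.1 ((hpure (Ideal.span {b})).le hab)
  refine ⟨c, ?_⟩
  rw [eq_div_iff hb0, ← map_mul, hc]

theorem isIntegrallyClosed_of_pure {R L : Type u} [CommRing R] [CommRing L] [IsDomain L] [IsDomain R]
    [IsIntegrallyClosed L] (ι : R →+* L) (hinj₀ : Function.Injective ι)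
    (hpure : ∀ J : Ideal R, (J.map ι).comap ι = J) : IsIntegrallyClosed R :=
  isIntegrallyClosed_of_pure_aux (FractionRing R) (FractionRing L) ι hinj₀ hpure

omit [GradedRing 𝒜] in
theorem exists_prime_over (hG : GoodSub 𝒜 p ι) (q : Ideal R) [q.IsPrime] :
    ∃ P : Ideal (Localization.AtPrime p), P.IsPrime ∧ P.comap ι = q :=
  (Ideal.comap_map_eq_self_iff_of_isPrime q).1 (hG.pure q)

/-- The homogeneous core of the contraction. -/
noncomputable def core (𝒜 : ℕ → AddSubgroup A) [GradedRing 𝒜] (P : Ideal (Localization.AtPrime p)) : Ideal A :=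
  ((P.comap (algebraMap A (Localization.AtPrime p))).homogeneousCore 𝒜).toIdeal

theorem mem_core_iff (hG : GoodSub 𝒜 p ι) {P : Ideal (Localization.AtPrime p)} [hP : P.IsPrime] {i : ℕ} {a : A}
    (ha : a ∈ 𝒜 i) {h : R} {k : ℕ} {w : Localization.AtPrime p} (hk : 0 < k) (hw : IsUnit w)
    (he : ι h = algebraMap A (Localization.AtPrime p) a ^ k * w) : a ∈ core 𝒜 P ↔ h ∈ P.comap ι := by
  rw [Ideal.mem_comap, he, Ideal.mul_unit_mem_iff_mem _ hw, hP.pow_mem_iff_mem k hk]
  exact ⟨fun hh => Ideal.toIdeal_homogeneousCore_le 𝒜 _ hh,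
    fun hh => Ideal.mem_homogeneousCore_of_homogeneous_of_mem ⟨i, ha⟩ hh⟩

theorem core_le_iff (hG : GoodSub 𝒜 p ι) {P P' : Ideal (Localization.AtPrime p)} [P.IsPrime] [P'.IsPrime] :
    core 𝒜 P ≤ core 𝒜 P' ↔ P.comap ι ≤ P'.comap ι := by
  classical
  constructor
  · intro hle h hh
    obtain ⟨i, x, w, hx, hw, he⟩ := hG.frac h
    have he' : ι h = algebraMap A (Localization.AtPrime p) x ^ 1 * w := by rw [pow_one]; exact he
    exact (mem_core_iff hG hx one_pos hw he').1 (hle ((mem_core_iff hG hx one_pos hw he').2 hh))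
  · intro hle x hx
    rw [← DirectSum.sum_support_decompose 𝒜 x]
    refine sum_mem fun i _ => ?_
    obtain ⟨h, k, w, hk, hw, he⟩ := hG.homog i _ (SetLike.coe_mem (decompose 𝒜 x i))
    have hi : (decompose 𝒜 x i : A) ∈ core 𝒜 P :=
      ((P.comap (algebraMap A (Localization.AtPrime p))).homogeneousCore 𝒜).isHomogeneous i hx
    exact (mem_core_iff hG (SetLike.coe_mem _) hk hw he).2 (hle ((mem_core_iff hG (SetLike.coe_mem _) hk hw he).1 hi))

theorem map_core (P : Ideal (Localization.AtPrime p)) [hP : P.IsPrime] :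
    ((core 𝒜 P).map (algebraMap A (Localization.AtPrime p))).IsPrime ∧
      ((core 𝒜 P).map (algebraMap A (Localization.AtPrime p))).comap (algebraMap A (Localization.AtPrime p)) = core 𝒜 P ∧
      (core 𝒜 P).map (algebraMap A (Localization.AtPrime p)) ≤ P := by
  have hpr : (core 𝒜 P).IsPrime := Ideal.IsPrime.homogeneousCore (Ideal.IsPrime.comap _)
  have hle : core 𝒜 P ≤ P.comap (algebraMap A (Localization.AtPrime p)) := Ideal.toIdeal_homogeneousCore_le 𝒜 _
  have hd : Disjoint (p.primeCompl : Set A) (core 𝒜 P : Set A) := Set.disjoint_left.2 fun x hx hxc =>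
    hP.ne_top (Ideal.eq_top_of_isUnit_mem _ (hle hxc) (IsLocalization.map_units _ (⟨x, hx⟩ : p.primeCompl)))
  exact ⟨IsLocalization.isPrime_of_isPrime_disjoint _ _ _ hpr hd,
    IsLocalization.comap_map_of_isPrime_disjoint _ _ hpr hd, Ideal.map_le_iff_le_comap.2 hle⟩

/-- Order embedding of spectra. -/
theorem exists_strictMono (hG : GoodSub 𝒜 p ι) :
    ∃ Φ : PrimeSpectrum R → PrimeSpectrum (Localization.AtPrime p), StrictMono Φ ∧
      ∀ (P : Ideal (Localization.AtPrime p)) (hP : P.IsPrime), (Φ ⟨P.comap ι, Ideal.IsPrime.comap ι⟩).asIdeal ≤ P := by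
  choose P hP hPq using fun q : PrimeSpectrum R => exists_prime_over hG q.asIdeal
  refine ⟨fun q => ⟨(core 𝒜 (P q)).map (algebraMap A (Localization.AtPrime p)), (map_core (P q)).1⟩,
    fun q q' hqq' => ?_, fun Q hQ => ?_⟩
  · haveI := hP q
    haveI := hP q'
    refine lt_of_le_of_ne (Ideal.map_mono ((core_le_iff hG).2 (by rw [hPq, hPq]; exact hqq'.le))) fun he => ?_
    have h1 : core 𝒜 (P q') ≤ core 𝒜 (P q) := by
      rw [← (map_core (P q)).2.1, ← (map_core (P q')).2.1]
      exact Ideal.comap_mono (congrArg PrimeSpectrum.asIdeal he).ge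
    have h2 := (core_le_iff hG).1 h1
    rw [hPq, hPq] at h2
    exact hqq'.ne (le_antisymm hqq'.le h2)
  · haveI := hP ⟨Q.comap ι, Ideal.IsPrime.comap ι⟩
    exact (Ideal.map_mono ((core_le_iff hG).2 (hPq _).le)).trans (map_core Q).2.2

theorem ringKrullDim_le (hG : GoodSub 𝒜 p ι) : ringKrullDim R ≤ ringKrullDim (Localization.AtPrime p) := by
  obtain ⟨Φ, hΦ, -⟩ := exists_strictMono hG
  exact Order.krullDim_le_of_strictMono Φ hΦ

/-- If associated primes of the localisation are minimal, so are those of the degree zero part. -/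
theorem eq_of_le_of_mem_ass [IsNoetherianRing A] (hG : GoodSub 𝒜 p ι)
    (hass : ∀ P ∈ associatedPrimes (Localization.AtPrime p) (Localization.AtPrime p),
      ∀ (Q : Ideal (Localization.AtPrime p)), Q.IsPrime → Q ≤ P → Q = P)
    {q : Ideal R} (hq : q ∈ associatedPrimes R R) {q₀ : Ideal R} [q₀.IsPrime] (hle : q₀ ≤ q) : q₀ = q := by
  haveI := hG.isNoetherianRing
  obtain ⟨hqp, z, hz⟩ := Alg6.mem_ass_iff.1 hq
  let L := Localization.AtPrime p
  let I : Ideal L := (Submodule.span L {ι z}).annihilator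
  have hcomap : I.comap ι = q := by
    ext h
    rw [Ideal.mem_comap, Submodule.mem_annihilator_span_singleton, smul_eq_mul, ← map_mul, hz h, smul_eq_mul]
    exact map_eq_zero_iff ι hG.injective
  obtain ⟨P, hP, hPq⟩ := Ideal.exists_minimalPrimes_comap_eq (I := I) ι q
    (by rw [hcomap, Ideal.minimalPrimes_eq_subsingleton_self]; rfl)
  haveI : P.IsPrime := hP.1.1
  have hPass : P ∈ associatedPrimes L L :=
    associatedPrimes.subset_of_injective (f := (Submodule.span L {ι z}).subtype) Subtype.val_injective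
      (Module.associatedPrimes.minimalPrimes_annihilator_subset_associatedPrimes L (Submodule.span L {ι z}) hP)
  obtain ⟨Φ, hΦ, hΦle⟩ := exists_strictMono hG
  have h1 := hΦle P inferInstance
  have h1' := hass P hPass _ (Φ _).isPrime h1
  by_contra hne
  have h2 := hΦ (show (⟨q₀, ‹_›⟩ : PrimeSpectrum R) < ⟨P.comap ι, Ideal.IsPrime.comap ι⟩ from
    lt_of_le_of_ne (show q₀ ≤ P.comap ι from hPq ▸ hle) (fun he => hne ((congrArg PrimeSpectrum.asIdeal he).trans hPq)))
  have h3 := hass P hPass _ (Φ _).isPrime (((PrimeSpectrum.asIdeal_le_asIdeal _ _).2 h2.le).trans h1)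
  exact h2.ne (PrimeSpectrum.ext (h3.trans h1'.symm))

theorem isCohenMacaulayLocalRing [IsNoetherianRing A] [IsLocalRing R] (hp : p.IsHomogeneous 𝒜)
    (hG : GoodSub 𝒜 p ι) (hCM : LocCoh.IsCohenMacaulayLocalRing (Localization.AtPrime p)) :
    LocCoh.IsCohenMacaulayLocalRing R := by
  classical
  haveI := hG.isNoetherianRing
  haveI := hG.isLocalHom
  let L := Localization.AtPrime p
  obtain ⟨s, hs, hcard⟩ := Ideal.exists_finset_card_eq_height_of_isNoetherianRing (maximalIdeal R)
  set rs := s.toList with hrs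
  have hlen : rs.length = s.card := Finset.length_toList s
  have hspan : Ideal.ofList rs = Ideal.span (s : Set R) := by
    refine congrArg Ideal.span (Set.ext fun x => ?_)
    simp [rs]
  let ls : List L := rs.map ι
  have hmapls : (Ideal.ofList rs).map ι = Ideal.ofList ls := Ideal.map_ofList ι rs
  have hmem : ∀ x ∈ rs, x ∈ maximalIdeal R := fun x hx =>
    hs.1.2 (Ideal.subset_span (Finset.mem_toList.1 hx))
  have hmemL : ∀ x ∈ ls, x ∈ maximalIdeal L := fun x hx => by
    obtain ⟨y, hy, rfl⟩ := List.mem_map.1 hx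
    exact map_nonunit ι y (hmem y hy)
  have hne : Ideal.ofList ls ≠ ⊤ := ne_top_of_le_ne_top (maximalIdeal.isMaximal L).ne_top (Ideal.span_le.2 hmemL)
  have honly : ∀ Q : Ideal L, Q.IsPrime → Ideal.ofList ls ≤ Q → Q = maximalIdeal L := by
    intro Q hQ hle
    refine le_antisymm (le_maximalIdeal hQ.ne_top) ?_
    have hm : maximalIdeal R ≤ Q.comap ι := hs.2 ⟨Ideal.IsPrime.comap ι, by
      rw [← hspan]; exact Ideal.map_le_iff_le_comap.1 (hmapls.le.trans hle)⟩ (le_maximalIdeal (Ideal.IsPrime.comap ι (K := Q)).ne_top)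
    rw [← Localization.AtPrime.map_eq_maximalIdeal, Ideal.map_le_iff_le_comap]
    intro a ha
    rw [← DirectSum.sum_support_decompose 𝒜 a]
    refine sum_mem fun i _ => ?_
    obtain ⟨h, k, w, hk, hw, he⟩ := hG.homog i _ (SetLike.coe_mem (decompose 𝒜 a i))
    rw [Ideal.mem_comap, ← hQ.pow_mem_iff_mem k hk, ← Ideal.mul_unit_mem_iff_mem _ hw, ← he]
    refine hm ((IsLocalRing.mem_maximalIdeal h).2 fun hu => ?_)
    have hu' := hu.map ι
    rw [he, IsUnit.mul_iff, isUnit_pow_iff hk.ne'] at hu'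
    exact (IsLocalization.AtPrime.isUnit_to_map_iff L p _).1 hu'.1 (hp i ha)
  haveI : Nontrivial (L ⧸ Ideal.ofList ls) := Ideal.Quotient.nontrivial_iff.2 hne
  have hzero : Module.supportDim L (L ⧸ Ideal.ofList ls) = 0 := by
    rw [Module.supportDim_quotient_eq_ringKrullDim]
    refine le_antisymm ?_ ringKrullDim_nonneg_of_nontrivial
    haveI : Ring.KrullDimLE 0 (L ⧸ Ideal.ofList ls) := Ring.KrullDimLE.mk₀ fun I hI => by
      have h1 := honly (I.comap (Ideal.Quotient.mk _)) (Ideal.IsPrime.comap _)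
        (fun x hx => show Ideal.Quotient.mk (Ideal.ofList ls) x ∈ I by
          rw [Ideal.Quotient.eq_zero_iff_mem.2 hx]; exact zero_mem _)
      have : (I.comap (Ideal.Quotient.mk (Ideal.ofList ls))).IsMaximal := h1 ▸ maximalIdeal.isMaximal L
      have h2 := Ideal.map_eq_top_or_isMaximal_of_surjective (Ideal.Quotient.mk (Ideal.ofList ls)) Ideal.Quotient.mk_surjective this
      rw [Ideal.map_comap_of_surjective _ Ideal.Quotient.mk_surjective I] at h2
      exact h2.resolve_left hI.ne_top
    exact Ring.krullDimLE_iff.1 ‹_›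
  have hLd := LC.supportDim_eq_add_idealDepth L hCM.supportDim_eq_depth hne
  rw [show Ideal.ofList ls • (⊤ : Submodule L L) = Ideal.ofList ls by rw [Ideal.smul_eq_mul, Ideal.mul_top],
    hzero, zero_add, Module.supportDim_self_eq_ringKrullDim] at hLd
  have hd1 : ((rs.length : ℕ∞) : WithBot ℕ∞) = ringKrullDim R := by
    rw [hlen, hcard, maximalIdeal_height_eq_ringKrullDim]
  have hd2 : ringKrullDim L ≤ ((ls.length : ℕ) : WithBot ℕ∞) := by
    have h := ringKrullDim_le_ringKrullDim_quotient_add_encard { x | x ∈ ls } (by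
      rw [IsLocalRing.ringJacobson_eq_maximalIdeal]; exact hmemL)
    rw [Module.supportDim_quotient_eq_ringKrullDim] at hzero
    rw [show Ideal.span { x | x ∈ ls } = Ideal.ofList ls from rfl, hzero, zero_add] at h
    refine h.trans ?_
    rw [show { x | x ∈ ls } = (ls.toFinset : Set L) by ext; simp, Set.encard_coe_eq_coe_finsetCard]
    exact_mod_cast ls.toFinset_card_le
  have hlsl : ls.length = rs.length := List.length_map ..
  have hLeq : ringKrullDim L = ((ls.length : ℕ∞) : WithBot ℕ∞) := le_antisymm hd2 (by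
    rw [hlsl, hd1]; exact ringKrullDim_le hG)
  have hreg : RingTheory.Sequence.IsWeaklyRegular L ls :=
    (LC.idealDepth_ofList_eq_length_iff (M := L) _ hmemL).1 (WithBot.coe_inj.1 (hLd.symm.trans hLeq))
  have hregR : RingTheory.Sequence.IsWeaklyRegular R rs := by
    refine ⟨fun i hi => isSMulRegular_iff_right_eq_zero_of_smul.2 fun y hy => ?_⟩
    obtain ⟨y, rfl⟩ := Submodule.Quotient.mk_surjective _ y
    rw [← Submodule.Quotient.mk_smul, Submodule.Quotient.mk_eq_zero, smul_eq_mul, smul_eq_mul, Ideal.mul_top] at hy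
    rw [Submodule.Quotient.mk_eq_zero, smul_eq_mul, Ideal.mul_top, ← hG.pure (Ideal.ofList (rs.take i)), Ideal.mem_comap,
      Ideal.map_ofList, List.map_take]
    have hi' : i < ls.length := by rw [hlsl]; exact hi
    have h1 := Ideal.mem_map_of_mem ι hy
    rw [map_mul, Ideal.map_ofList, List.map_take] at h1
    have h2 := (hreg.regular_mod_prev i hi').right_eq_zero_of_smul (x := Submodule.Quotient.mk (ι y)) (by
      rw [← Submodule.Quotient.mk_smul, Submodule.Quotient.mk_eq_zero, smul_eq_mul, smul_eq_mul, Ideal.mul_top,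
        show ls[i] = ι rs[i] from List.getElem_map ..]
      exact h1)
    rwa [Submodule.Quotient.mk_eq_zero, smul_eq_mul, Ideal.mul_top] at h2
  refine { supportDim_eq_depth := le_antisymm ?_ (LC.depth_le_supportDim R) }
  rw [Module.supportDim_self_eq_ringKrullDim, ← hd1]
  exact WithBot.coe_le_coe.2 (Alg6.length_le_idealDepth hregR hmem)

end Groth.Agent.LA96.ProjStalk
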