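import Mathlib
import Groth.Agent.LA96.ProjStalk2

/-! # Stalks of `Proj` -/

set_option autoImplicit false
set_option linter.style.haveILetI false
set_option maxHeartbeats 1000000

universe u

open DirectSum IsLocalRing AlgebraicGeometry

namespace Groth.Agent.LA96.ProjStalk

variable {A : Type u} [CommRing A] (𝒜 : ℕ → AddSubgroup A) [GradedRing 𝒜]

instance isPrime_point (x : Proj 𝒜) : x.asHomogeneousIdeal.toIdeal.IsPrime := ProjectiveSpectrum.isPrime x

theorem exists_goodSub (x : Proj 𝒜) :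
    ∃ ι : ((Proj 𝒜).presheaf.stalk x : Type u) →+* Localization.AtPrime x.asHomogeneousIdeal.toIdeal,
      GoodSub 𝒜 x.asHomogeneousIdeal.toIdeal ι := by
  classical
  set p := x.asHomogeneousIdeal.toIdeal
  obtain ⟨d, f, hd, hf, hfp⟩ : ∃ (d : ℕ) (f : A), 0 < d ∧ f ∈ 𝒜 d ∧ f ∉ p := by
    by_contra! h
    refine x.not_irrelevant_le fun a ha => ?_
    rw [← DirectSum.sum_support_decompose 𝒜 a]
    refine sum_mem fun i _ => ?_
    rcases Nat.eq_zero_or_pos i with rfl | hi
    · rw [show (decompose 𝒜 a 0 : A) = 0 from ha]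
      exact zero_mem _
    · exact h i _ hi (SetLike.coe_mem _)
  exact ⟨_, (goodSub_atPrime 𝒜 p hd hf hfp).comp_equiv _ (Proj.stalkIso 𝒜 x).commRingCatIsoToRingEquiv⟩

theorem hasSk_one [IsNoetherianRing A] (hA : LocCoh.HasSk 1 A A) (x : Proj 𝒜) :
    LocCoh.HasSk 1 ((Proj 𝒜).presheaf.stalk x) ((Proj 𝒜).presheaf.stalk x) := by
  obtain ⟨ι, hG⟩ := exists_goodSub 𝒜 x
  haveI := hG.isNoetherianRing
  set p := x.asHomogeneousIdeal.toIdeal
  refine (S2085.result).1 fun q hq => ?_
  have hqp : q.IsPrime := hq.isPrime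
  refine ⟨⟨hqp, by rw [Module.annihilator_eq_bot.2 inferInstance]; exact bot_le⟩, fun q₀ hq₀ hle => ?_⟩
  haveI := hq₀.1
  refine (eq_of_le_of_mem_ass hG (fun P hP Q hQ hQP => ?_) hq hle).ge
  haveI : P.IsPrime := hP.isPrime
  have h1 := Module.associatedPrimes.comap_mem_associatedPrimes_of_mem_associatedPrimes_of_isLocalizedModule_of_fg
    p.primeCompl (Algebra.linearMap A (Localization.AtPrime p)) P hP (IsNoetherian.noetherian _)
  have h2 := FlatLoc6.height_eq_zero_of_mem_ass hA h1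
  rw [IsLocalization.height_comap p.primeCompl, Ideal.height_eq_zero_iff] at h2
  exact le_antisymm hQP (h2.2 ⟨hQ, bot_le⟩ hQP)

end Groth.Agent.LA96.ProjStalk
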