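import Mathlib
import Groth.Prelude.Def_W4c2filtblowupsingRees

/-! # Rees algebras of valuation filtrations are integrally closed -/

set_option autoImplicit false
set_option linter.style.haveILetI false

universe u

open Polynomial

namespace Groth.Agent.LA96.ReesVal

/-- Integrally closed in an integrally closed overring. -/
theorem isIntegrallyClosed_of_in {R S : Type u} (K F : Type u) [CommRing R] [CommRing S] [IsDomain R] [IsDomain S]
    [Field K] [Algebra R K] [IsFractionRing R K] [Field F] [Algebra S F] [IsFractionRing S F]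
    [IsIntegrallyClosed S] (ι : R →+* S) (hinj₀ : Function.Injective ι)
    (hin : ∀ s : S, ι.IsIntegralElem s → ∃ r, ι r = s) : IsIntegrallyClosed R := by
  refine (isIntegrallyClosed_iff K).2 fun {z} hz => ?_
  have hinj : Function.Injective ((algebraMap S F).comp ι) :=
    (IsFractionRing.injective S F).comp hinj₀
  let g : K →+* F := IsFractionRing.lift hinj
  have hgc : g.comp (algebraMap R K) = (algebraMap S F).comp ι :=
    RingHom.ext fun r => IsFractionRing.lift_algebraMap hinj r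
  obtain ⟨P, hP, hPz⟩ := hz
  have hgz : IsIntegral S (g z) := by
    refine ⟨P.map ι, hP.map ι, ?_⟩
    rw [Polynomial.eval₂_map, ← hgc, ← Polynomial.hom_eval₂, hPz, map_zero]
  obtain ⟨l, hl⟩ := IsIntegrallyClosed.isIntegral_iff.1 hgz
  have hint : ι.IsIntegralElem l := by
    refine ⟨P, hP, IsFractionRing.injective S F ?_⟩
    rw [Polynomial.hom_eval₂, hl, ← hgc, ← Polynomial.hom_eval₂, hPz, map_zero, map_zero]
  obtain ⟨r, hr⟩ := hin l hint
  exact ⟨r, g.injective ((RingHom.congr_fun hgc r).trans (by rw [RingHom.comp_apply, hr, hl]))⟩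

theorem natCast_mul_eq_nsmul {q : ℕ} (hq : 0 < q) (x : WithTop ℤ) : (q : WithTop ℤ) * x = q • x := by
  induction x using WithTop.recTopCoe with
  | top =>
    rw [WithTop.mul_top (by exact_mod_cast hq.ne')]
    cases q with
    | zero => omega
    | succ q => rw [succ_nsmul, add_top]
  | coe a =>
    rw [← WithTop.coe_natCast, ← WithTop.coe_mul, ← WithTop.coe_nsmul, nsmul_eq_mul]

variable {A : Type u} [CommRing A] {K : Type u} [Field K] (φ : A →+* K) (w : AddValuation K (WithTop ℤ)) (p : ℤ)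

/-- Lower bound for the shifted Gauss valuation. -/
def B (f : A[X]) (m : ℤ) : Prop := ∀ n : ℕ, ((n * p + m : ℤ) : WithTop ℤ) ≤ w (φ (f.coeff n))

theorem B.mul {f g : A[X]} {m m' : ℤ} (hf : B φ w p f m) (hg : B φ w p g m') : B φ w p (f * g) (m + m') := by
  intro n
  rw [coeff_mul, map_sum]
  refine w.map_le_sum fun ij hij => ?_
  rw [map_mul, AddValuation.map_mul]
  refine le_trans (le_of_eq ?_) (add_le_add (hf ij.1) (hg ij.2))
  rw [← WithTop.coe_add]
  congr 1
  rw [← Finset.HasAntidiagonal.mem_antidiagonal.1 hij]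
  push_cast
  ring

theorem B.of_le {f : A[X]} {m m' : ℤ} (hf : B φ w p f m) (h : m' ≤ m) : B φ w p f m' := fun n =>
  le_trans (WithTop.coe_le_coe.2 (by linarith)) (hf n)

theorem B.sum {ι : Type*} (s : Finset ι) (f : ι → A[X]) (m : ℤ) (hf : ∀ i ∈ s, B φ w p (f i) m) :
    B φ w p (∑ i ∈ s, f i) m := fun n => by
  rw [finsetSum_coeff, map_sum]
  exact w.map_le_sum fun i hi => hf i hi n

theorem B.one : B φ w p (1 : A[X]) 0 := fun n => by
  rw [coeff_one]
  split_ifs with h
  · subst h; simp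
  · simp

theorem B.pow {f : A[X]} {m : ℤ} (hf : B φ w p f m) : ∀ k : ℕ, B φ w p (f ^ k) (k * m)
  | 0 => by simpa using B.one φ w p
  | k + 1 => by
    rw [pow_succ, Nat.cast_succ, add_mul, one_mul]
    exact (B.pow hf k).mul φ w p hf

/-- The bound is attained first at `n₀`. -/
def Exact (f : A[X]) (m : ℤ) (n₀ : ℕ) : Prop :=
  B φ w p f m ∧ w (φ (f.coeff n₀)) = ((n₀ * p + m : ℤ) : WithTop ℤ) ∧
    ∀ n < n₀, ((n * p + m : ℤ) : WithTop ℤ) < w (φ (f.coeff n))

theorem Exact.mul {f g : A[X]} {m m' : ℤ} {a b : ℕ} (hf : Exact φ w p f m a) (hg : Exact φ w p g m' b) :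
    w (φ ((f * g).coeff (a + b))) = (((a + b : ℕ) : ℤ) * p + (m + m') : ℤ) ∧
      ∀ n < a + b, ((n * p + (m + m') : ℤ) : WithTop ℤ) < w (φ ((f * g).coeff n)) := by
  classical
  have hlt : ∀ i j : ℕ, i < a ∨ j < b →
      (((i + j : ℕ) : ℤ) * p + (m + m') : ℤ) < w (φ (f.coeff i * g.coeff j)) := fun i j hij => by
    rw [map_mul, AddValuation.map_mul, show ((i + j : ℕ) : ℤ) * p + (m + m') = (i * p + m) + (j * p + m') by push_cast; ring,
      WithTop.coe_add]
    rcases hij with h | h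
    · exact WithTop.add_lt_add_of_lt_of_le WithTop.coe_ne_top (hf.2.2 i h) (hg.1 j)
    · exact WithTop.add_lt_add_of_le_of_lt WithTop.coe_ne_top (hf.1 i) (hg.2.2 j h)
  constructor
  · rw [coeff_mul, map_sum, ← Finset.add_sum_erase _ _ (show (a, b) ∈ Finset.HasAntidiagonal.antidiagonal (a + b) from by simp)]
    have h0 : w (φ (f.coeff a * g.coeff b)) = (((a + b : ℕ) : ℤ) * p + (m + m') : ℤ) := by
      rw [map_mul, AddValuation.map_mul, hf.2.1, hg.2.1, ← WithTop.coe_add]
      congr 1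
      push_cast
      ring
    rw [AddValuation.map_add_eq_of_lt_left, h0]
    rw [h0]
    refine w.map_lt_sum WithTop.coe_ne_top fun ij hij => ?_
    rw [Finset.mem_erase, Finset.HasAntidiagonal.mem_antidiagonal] at hij
    rw [← hij.2]
    refine hlt _ _ ?_
    by_contra! hc
    exact hij.1 (Prod.ext (by omega) (by omega))
  · intro n hn
    rw [coeff_mul, map_sum]
    refine w.map_lt_sum WithTop.coe_ne_top fun ij hij => ?_
    rw [Finset.HasAntidiagonal.mem_antidiagonal] at hij
    rw [← hij]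
    exact hlt _ _ (by omega)

theorem Exact.pow {f : A[X]} {m : ℤ} {a : ℕ} (hf : Exact φ w p f m a) :
    ∀ k : ℕ, Exact φ w p (f ^ k) (k * m) (k * a)
  | 0 => by
    refine ⟨(B.pow φ w p hf.1 0), by simp, fun n hn => ?_⟩
    omega
  | k + 1 => by
    have h := (Exact.pow hf k).mul φ w p hf
    rw [← pow_succ] at h
    refine ⟨B.pow φ w p hf.1 (k + 1), ?_, ?_⟩
    · rw [add_one_mul k a, h.1]; congr 1; push_cast; ring
    · intro n hn
      rw [add_one_mul k a] at hn
      refine lt_of_eq_of_lt ?_ (h.2 n hn)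
      congr 1
      push_cast
      ring

theorem exists_exact {f : A[X]} (h : ¬ B φ w p f 0) :
    ∃ (m : ℤ) (a : ℕ), m < 0 ∧ Exact φ w p f m a := by
  classical
  rw [B] at h
  push Not at h
  obtain ⟨n₁, hn₁⟩ := h
  have hfin : ∀ n, w (φ (f.coeff n)) ≠ ⊤ → n ∈ f.support := fun n hn => by
    rw [mem_support_iff]
    intro h0
    exact hn (by rw [h0, map_zero, AddValuation.map_zero])
  let t := f.support.filter fun n => w (φ (f.coeff n)) ≠ ⊤
  have ht1 : n₁ ∈ t := Finset.mem_filter.2 ⟨hfin _ hn₁.ne_top, hn₁.ne_top⟩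
  let val : ℕ → ℤ := fun n => WithTop.untopD 0 (w (φ (f.coeff n))) - n * p
  have hval : ∀ n ∈ t, w (φ (f.coeff n)) = ((val n + n * p : ℤ) : WithTop ℤ) := fun n hn => by
    obtain ⟨z, hz⟩ := WithTop.ne_top_iff_exists.1 (Finset.mem_filter.1 hn).2
    simp only [val, ← hz, WithTop.untopD_coe, sub_add_cancel]
  obtain ⟨m, hm⟩ : ∃ m, m = (t.image val).min' ((Finset.image_nonempty).2 ⟨n₁, ht1⟩) := ⟨_, rfl⟩
  have hmle : ∀ n ∈ t, m ≤ val n := fun n hn => hm ▸ Finset.min'_le _ _ (Finset.mem_image_of_mem _ hn)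
  have hne : (t.filter fun n => val n = m).Nonempty := by
    obtain ⟨n, hn, he⟩ := Finset.mem_image.1 (hm ▸ Finset.min'_mem (t.image val) _)
    exact ⟨n, Finset.mem_filter.2 ⟨hn, he⟩⟩
  obtain ⟨a, ha, hamin⟩ := (t.filter fun n => val n = m).exists_min_image id hne
  rw [Finset.mem_filter] at ha
  refine ⟨m, a, ?_, ?_, by rw [hval a ha.1, ha.2, add_comm], fun n hn => ?_⟩
  · have h1 := hn₁
    rw [hval n₁ ht1, WithTop.coe_lt_coe] at h1
    linarith [hmle n₁ ht1]
  · intro n
    by_cases hn : n ∈ t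
    · rw [hval n hn]; exact WithTop.coe_le_coe.2 (by linarith [hmle n hn])
    · have : w (φ (f.coeff n)) = ⊤ := by
        by_contra hc; exact hn (Finset.mem_filter.2 ⟨hfin n hc, hc⟩)
      rw [this]; exact le_top
  · by_cases hnt : n ∈ t
    · rw [hval n hnt, WithTop.coe_lt_coe]
      have : val n ≠ m := fun he => absurd (hamin n (Finset.mem_filter.2 ⟨hnt, he⟩)) (not_le.2 hn)
      have := lt_of_le_of_ne (hmle n hnt) (Ne.symm this)
      linarith
    · have : w (φ (f.coeff n)) = ⊤ := by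
        by_contra hc; exact hnt (Finset.mem_filter.2 ⟨hfin n hc, hc⟩)
      rw [this]; exact WithTop.coe_lt_top _

/-- The bound is inherited by integral elements. -/
theorem B_of_isIntegral {R : Type u} [CommRing R] (ι : R →+* A[X]) (hι : ∀ r, B φ w p (ι r) 0) {f : A[X]}
    (hf : ι.IsIntegralElem f) : B φ w p f 0 := by
  by_contra h
  obtain ⟨m, a, hm, hex⟩ := exists_exact φ w p h
  obtain ⟨P, hP, hev⟩ := hf
  set d := P.natDegree
  have hexp : f ^ d = ∑ j ∈ Finset.range d, ι (-P.coeff j) * f ^ j := by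
    rw [eval₂_eq_sum_range, Finset.sum_range_succ, show P.coeff d = 1 from hP, map_one, one_mul] at hev
    simp only [map_neg, neg_mul, Finset.sum_neg_distrib]
    linear_combination hev
  have hB : B φ w p (f ^ d) ((d : ℤ) * m - m) := by
    rw [hexp]
    refine B.sum φ w p _ _ _ fun j hj => ?_
    refine ((hι _).mul φ w p (hex.1.pow φ w p j)).of_le φ w p ?_
    rw [Finset.mem_range] at hj
    have : (j : ℤ) + 1 ≤ d := by exact_mod_cast hj
    nlinarith
  have h1 := hB (d * a)
  rw [(hex.pow φ w p d).2.1, WithTop.coe_le_coe] at h1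
  linarith

theorem isIntegrallyClosed_rees {A K : Type u} [CommRing A] [IsDomain A] [IsIntegrallyClosed A] [Field K] [Algebra A K]
    {ι : Type} (v : ι → AddValuation K (WithTop ℤ)) (p q : ι → ℕ) (hq : ∀ i, 0 < q i)
    (𝓕 : FiltBl.IdealFiltration A)
    (hF : ∀ (k : ℕ) (x : A), x ∈ 𝓕.F k ↔
      ∀ i, ((k * p i : ℕ) : WithTop ℤ) ≤ (q i : WithTop ℤ) * v i (algebraMap A K x)) :
    IsIntegrallyClosed 𝓕.rees := by
  let w : ι → AddValuation K (WithTop ℤ) := fun i => (v i).map (nsmulAddMonoidHom (q i))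
    (by
      show q i • (⊤ : WithTop ℤ) = ⊤
      cases h : q i with
      | zero => exact absurd h (hq i).ne'
      | succ k => rw [succ_nsmul, add_top])
    (fun a b hab => nsmul_le_nsmul_right hab _)
  have key : ∀ f : A[X], f ∈ 𝓕.rees ↔ ∀ i, B (algebraMap A K) (w i) (p i) f 0 := by
    intro f
    refine ⟨fun hf i n => ?_, fun h n => (hF n _).2 fun i => ?_⟩
    · refine le_trans (le_of_eq ?_) (((hF n _).1 (hf n) i).trans_eq (natCast_mul_eq_nsmul (hq i) _))
      simp only [add_zero]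
      norm_cast
    · refine le_trans (le_of_eq ?_) ((h i n).trans_eq (natCast_mul_eq_nsmul (hq i) _).symm)
      simp only [add_zero]
      norm_cast
  refine isIntegrallyClosed_of_in (FractionRing 𝓕.rees) (FractionRing A[X]) 𝓕.rees.val.toRingHom
    Subtype.val_injective fun s hs => ⟨⟨s, (key s).2 fun i => ?_⟩, rfl⟩
  exact B_of_isIntegral _ _ _ 𝓕.rees.val.toRingHom (fun r => (key r.1).1 r.2 i) hs

end Groth.Agent.LA96.ReesVal
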