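import Mathlib
import Groth.Agent.LA96.Dev
import Groth.Prelude.Def_EGA4b
import Groth.Prelude.Def_RegImm

/-! # Transversally regular generators and complete intersection fibres -/

set_option autoImplicit false
set_option linter.style.haveILetI false
set_option backward.isDefEq.respectTransparency.types false
set_option maxHeartbeats 1000000

universe u

open IsLocalRing RingTheory.Sequence

namespace Groth.Agent.LA96.TransReg

open Groth.Agent.Synt29 Groth.Agent.AvramovLib Groth.Agent.FlatLoc6

theorem transReg_iff {A C B : Type u} [CommRing A] [IsLocalRing A] [IsNoetherianRing A] [CommRing C] [IsLocalRing C]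
    [IsNoetherianRing C] [Algebra A C] [IsLocalHom (algebraMap A C)] [Module.Flat A C]
    [IsRegularLocalRing (C ⧸ (maximalIdeal A).map (algebraMap A C))]
    [CommRing B] [IsLocalRing B] [Algebra A B] [IsLocalHom (algebraMap A B)]
    (g : C →ₐ[A] B) (hg : Function.Surjective g) :
    (∃ rs : List C, Ideal.ofList rs = RingHom.ker g.toRingHom ∧ RegImm.IsTransRegularSeq A C rs) ↔
      (Module.Flat A B ∧ Pi1.IsCompleteIntersection (B ⧸ (maximalIdeal A).map (algebraMap A B))) := by
  haveI : IsNoetherianRing B := isNoetherianRing_of_surjective C B g.toRingHom hg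
  set P := (maximalIdeal A).map (algebraMap A C)
  set Q := (maximalIdeal A).map (algebraMap A B) with hQ
  let K := RingHom.ker g.toRingHom
  haveI : Nontrivial (B ⧸ Q) := Ideal.Quotient.nontrivial_iff.2
    (ne_top_of_le_ne_top (maximalIdeal.isMaximal B).ne_top (map_maximalIdeal_le (algebraMap A B)))
  haveI : IsLocalRing (B ⧸ Q) := IsLocalRing.of_surjective' (Ideal.Quotient.mk Q) Ideal.Quotient.mk_surjective
  have hPQ : P.map g.toRingHom = Q := by
    rw [Ideal.map_map]
    exact congrArg (fun f => Ideal.map f (maximalIdeal A)) g.comp_algebraMap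
  let pb : (C ⧸ P) →+* B ⧸ Q := Ideal.quotientMap Q g.toRingHom (Ideal.map_le_iff_le_comap.1 hPQ.le)
  have hpb : Function.Surjective pb := fun z => by
    obtain ⟨s, rfl⟩ := Ideal.Quotient.mk_surjective z
    obtain ⟨t, rfl⟩ := hg s
    exact ⟨Ideal.Quotient.mk P t, rfl⟩
  have hkb : RingHom.ker pb = K.map (Ideal.Quotient.mk P) := by
    refine le_antisymm (fun z hz => ?_) (Ideal.map_le_iff_le_comap.2 fun x hx => ?_)
    · obtain ⟨t, rfl⟩ := Ideal.Quotient.mk_surjective z
      have ht : g t ∈ P.map g.toRingHom := hPQ.symm ▸ Ideal.Quotient.eq_zero_iff_mem.1 hz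
      obtain ⟨w, hw, hwt⟩ := (Ideal.mem_map_iff_of_surjective g.toRingHom hg).1 ht
      rw [show Ideal.Quotient.mk P t = Ideal.Quotient.mk P (t - w) by rw [Ideal.Quotient.eq]; simpa using hw]
      exact Ideal.mem_map_of_mem _ (by rw [RingHom.mem_ker, map_sub, hwt]; exact sub_self _)
    · show Ideal.Quotient.mk Q (g.toRingHom x) = 0
      rw [show g.toRingHom x = 0 from hx, map_zero]
  constructor
  · rintro ⟨rs, hrs, hreg, hfl⟩
    let e : (C ⧸ K) ≃ₐ[A] B := Ideal.quotientKerAlgEquivOfSurjective hg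
    haveI hflatB : Module.Flat A B := by
      have h1 := hfl rs.length le_rfl
      rw [List.take_length, hrs] at h1
      exact Module.Flat.of_linearEquiv e.toLinearEquiv.symm
    refine ⟨hflatB, (CILib.isCI_iff_ciKer pb hpb).2 ?_⟩
    refine ⟨rs.length, fun i => Ideal.Quotient.mk P (rs.get i), ?_, ?_⟩
    · rw [hkb, show K = Ideal.ofList rs from hrs.symm, Ideal.map_ofList, ← Synt29.ofList_ofFn]
      congr 1
      conv_lhs => rw [← List.ofFn_get rs]
      rw [List.map_ofFn]
      rfl
    · have hm : ∀ r ∈ rs, r ∈ maximalIdeal C := fun r hr =>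
        Synt29.ker_le_maximalIdeal g.toRingHom (hrs ▸ Ideal.subset_span hr)
      have h := Module.supportDim_add_length_eq_supportDim_of_isRegular rs
        (IsRegular.of_isWeaklyRegular_of_mem_maximalIdeal C hm hreg)
      rw [Module.supportDim_eq_of_equiv (Submodule.quotEquivOfEq _ _
          (show (Ideal.ofList rs • ⊤ : Submodule C C) = Ideal.ofList rs by rw [Ideal.smul_eq_mul, Ideal.mul_top])),
        Module.supportDim_quotient_eq_ringKrullDim, Module.supportDim_self_eq_ringKrullDim,
        ringKrullDim_eq_of_ringEquiv ((Ideal.quotEquivOfEq hrs).trans e.toRingEquiv),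
        dim_eq_add (A := A) (B := B), dim_eq_add (A := A) (B := C), add_assoc] at h
      obtain ⟨a, ha⟩ := exists_nat_dim A
      obtain ⟨b, hb⟩ := exists_nat_dim (B ⧸ Q)
      obtain ⟨c, hc⟩ := exists_nat_dim (C ⧸ P)
      rw [ha, hb, hc] at h
      rw [hb, hc]
      norm_cast at h ⊢
      omega
  · rintro ⟨hflat, hci⟩
    haveI := hflat
    obtain ⟨rb, hregb, hkerb⟩ := (Synt29.ciKer_iff_regular pb hpb).1 ((CILib.isCI_iff_ciKer pb hpb).1 hci)
    have hys : ∃ ys : List C, (∀ y ∈ ys, y ∈ K) ∧ ys.map (Ideal.Quotient.mk P) = rb := by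
      have hl : ∀ r ∈ rb, ∃ z ∈ K, Ideal.Quotient.mk P z = r := fun r hr =>
        (Ideal.mem_map_iff_of_surjective _ Ideal.Quotient.mk_surjective).1
          (show r ∈ K.map (Ideal.Quotient.mk P) from hkb ▸ hkerb ▸ Ideal.subset_span hr)
      clear hregb hkerb
      induction rb with
      | nil => exact ⟨[], by simp, rfl⟩
      | cons r rb ih =>
        obtain ⟨z, hz, rfl⟩ := hl r List.mem_cons_self
        obtain ⟨ys, hys, rfl⟩ := ih (fun a ha => hl a (List.mem_cons_of_mem _ ha))
        exact ⟨z :: ys, fun a ha => (List.mem_cons.1 ha).elim (fun h => h ▸ hz) (hys a), rfl⟩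
    obtain ⟨ys, hysK, rfl⟩ := hys
    have hgen : K = Ideal.ofList ys := by
      refine le_antisymm ?_ (Ideal.span_le.2 hysK)
      refine Submodule.le_of_le_smul_of_le_jacobson_bot K.fg_of_isNoetherianRing
        ((map_maximalIdeal_le (algebraMap A C)).trans (maximalIdeal_le_jacobson ⊥)) ?_
      intro x hx
      have hxb : Ideal.Quotient.mk P x ∈ (Ideal.ofList ys).map (Ideal.Quotient.mk P) := by
        rw [Ideal.map_ofList, ← hkerb, hkb]
        exact Ideal.mem_map_of_mem _ hx
      rw [Ideal.mem_quotient_iff_mem_sup] at hxb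
      obtain ⟨a, ha, b, hb, rfl⟩ := Submodule.mem_sup.1 hxb
      exact Submodule.add_mem_sup ha (ker_inf_le g hg ⟨(show b ∈ K by have h := sub_mem hx (Ideal.span_le.2 hysK ha : a ∈ K); rwa [add_sub_cancel_left] at h), hb⟩)
    have hwb : ∀ zs : List C, IsWeaklyRegular (C ⧸ P) (zs.map (Ideal.Quotient.mk P)) →
        IsWeaklyRegular (C ⧸ mN A C C) zs := fun zs h => by
      let e : (C ⧸ mN A C C) ≃ₗ[C] C ⧸ P := Submodule.quotEquivOfEq _ _
        (by show P • (⊤ : Submodule C C) = P; rw [smul_eq_mul, Ideal.mul_top])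
      rw [e.isWeaklyRegular_congr zs, ← isWeaklyRegular_map_algebraMap_iff (C ⧸ P) (C ⧸ P) zs]
      exact h
    refine ⟨ys, hgen.symm, (regular_of_fibre (A := A) ys C (hwb ys hregb.toIsWeaklyRegular)).1, fun j _ => ?_⟩
    have hj : IsWeaklyRegular (C ⧸ P) ((ys.take j).map (Ideal.Quotient.mk P)) := by
      have h0 := hregb.toIsWeaklyRegular
      rw [← List.take_append_drop j ys, List.map_append, isWeaklyRegular_append_iff] at h0
      exact h0.1
    haveI := (regular_of_fibre (A := A) (ys.take j) C (hwb _ hj)).2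
    exact Module.Flat.of_linearEquiv ((Submodule.quotEquivOfEq _ ((Ideal.ofList (ys.take j)) • (⊤ : Submodule C C))
      (by rw [smul_eq_mul, Ideal.mul_top])).restrictScalars A)

end Groth.Agent.LA96.TransReg
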