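import Groth.Agent.LA96.FibreDim
import Groth.Agent.LA96.TransReg
import Groth.Agent.GrpSchLib.SmoothRegular
import Groth.Agent.GrpSchLib.FieldSmooth
import Groth.Agent.KRegLib.Regular

/-! # Codimension of a smooth closed subscheme of a smooth scheme -/

set_option autoImplicit false
set_option linter.style.haveILetI false
set_option backward.isDefEq.respectTransparency.types false

universe u

open AlgebraicGeometry CategoryTheory IsLocalRing RingTheory.Sequence

namespace Groth.Agent.LA96.SmoothCodim

variable {X Y S : Scheme.{u}}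

theorem isRegularLocalRing_fiberStalk (f : X ⟶ S) [Smooth f] (x : X) :
    IsRegularLocalRing (CInt.fiberStalk f x) := by
  haveI : Smooth (f.fiberToSpecResidueField (f x)) :=
    MorphismProperty.pullback_snd (P := @Smooth) _ _ inferInstance
  exact GrpSchLib.isRegularLocalRing_stalk_of_smooth (K := S.residueField (f x))
    (f.fiberToSpecResidueField (f x)) (f.asFiber x)

/-- Below every point of the subscheme there is one whose local ring in `X` is no bigger than the fibre. -/
theorem exists_dim_stalk_le_fiber [IsLocallyNoetherian X] [IsLocallyNoetherian S] (f : X ⟶ S) [Smooth f]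
    (i : Y ⟶ X) [IsClosedImmersion i] [Smooth (i ≫ f)] (w : Y) :
    ∃ w' : Y, ringKrullDim (X.presheaf.stalk (i w')) ≤ ringKrullDim (CInt.fiberStalk f (i w)) := by
  classical
  algebraize [(f.stalkMap (i w)).hom]
  haveI : IsLocallyNoetherian Y := LocallyOfFiniteType.isLocallyNoetherian i
  let R := S.presheaf.stalk (f (i w))
  let A := X.presheaf.stalk (i w)
  let B := Y.presheaf.stalk w
  letI : Algebra R B := ((i.stalkMap w).hom.comp (f.stalkMap (i w)).hom).toAlgebra
  haveI : Module.Flat R A := Flat.stalkMap f (i w)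
  haveI : IsLocalHom (algebraMap R A) := inferInstanceAs (IsLocalHom (f.stalkMap (i w)).hom)
  have hcomp : ((i ≫ f).stalkMap w).hom = algebraMap R B := by
    rw [Scheme.Hom.stalkMap_comp]
    rfl
  haveI : Module.Flat R B := by
    have h : ((i ≫ f).stalkMap w).hom.Flat := Flat.stalkMap (i ≫ f) w
    rw [hcomp] at h
    exact RingHom.flat_algebraMap_iff.1 h
  haveI : IsLocalHom (algebraMap R B) := by
    rw [← hcomp]
    exact inferInstanceAs (IsLocalHom ((i ≫ f).stalkMap w).hom)
  let g : A →ₐ[R] B := { (i.stalkMap w).hom with commutes' := fun _ => rfl }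
  have hg : Function.Surjective g := i.stalkMap_surjective w
  obtain ⟨eA⟩ := exists_fiberStalkEquiv f (i w)
  haveI := isRegularLocalRing_fiberStalk f (i w)
  haveI : IsRegularLocalRing (A ⧸ (maximalIdeal R).map (algebraMap R A)) :=
    IsRegularLocalRing.of_ringEquiv (R := CInt.fiberStalk f (i w)) eA.symm
  obtain ⟨eB⟩ := exists_fiberStalkEquiv (i ≫ f) w
  haveI := isRegularLocalRing_fiberStalk (i ≫ f) w
  haveI : IsRegularLocalRing (B ⧸ (maximalIdeal R).map (algebraMap R B)) := by
    rw [← hcomp]
    exact IsRegularLocalRing.of_ringEquiv (R := CInt.fiberStalk (i ≫ f) w) eB.symm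
  obtain ⟨rs, hrs, hreg, -⟩ := (TransReg.transReg_iff g hg).2
    ⟨inferInstance, KRegLib.isCompleteIntersection_of_regular _⟩
  let K := RingHom.ker g.toRingHom
  have hm : ∀ r ∈ rs, r ∈ maximalIdeal A := fun r hr =>
    Synt29.ker_le_maximalIdeal g.toRingHom (hrs ▸ Ideal.subset_span hr)
  have h := Module.supportDim_add_length_eq_supportDim_of_isRegular rs
    (IsRegular.of_isWeaklyRegular_of_mem_maximalIdeal A hm hreg)
  rw [Module.supportDim_eq_of_equiv (Submodule.quotEquivOfEq _ _
      (show (Ideal.ofList rs • ⊤ : Submodule A A) = Ideal.ofList rs by rw [Ideal.smul_eq_mul, Ideal.mul_top])),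
    Module.supportDim_quotient_eq_ringKrullDim, Module.supportDim_self_eq_ringKrullDim,
    ringKrullDim_eq_of_ringEquiv ((Ideal.quotEquivOfEq hrs).trans (RingHom.quotientKerEquivOfSurjective hg)),
    AvramovLib.dim_eq_add (A := R) (B := B), AvramovLib.dim_eq_add (A := R) (B := A), add_assoc] at h
  obtain ⟨a, ha⟩ := AvramovLib.exists_nat_dim R
  obtain ⟨b, hb⟩ := AvramovLib.exists_nat_dim (B ⧸ (maximalIdeal R).map (algebraMap R B))
  obtain ⟨c, hc⟩ := AvramovLib.exists_nat_dim (A ⧸ (maximalIdeal R).map (algebraMap R A))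
  rw [ha, hb, hc] at h
  have hlen : rs.length ≤ c := by norm_cast at h; omega
  obtain ⟨P, hP⟩ := Ideal.nonempty_minimalPrimes (RingHom.ker_ne_top g.toRingHom)
  have hPht : P.height ≤ rs.toFinset.card := Ideal.height_le_card_of_mem_minimalPrimes_span_finset (by
    rw [show Ideal.span ((rs.toFinset : Finset A) : Set A) = Ideal.ofList rs by rw [Ideal.ofList, List.coe_toFinset],
      hrs]
    exact hP)
  haveI : P.IsPrime := hP.1.1
  let Q : PrimeSpectrum B := ⟨P.map g.toRingHom, Ideal.map_isPrime_of_surjective hg hP.1.2⟩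
  have hQ : PrimeSpectrum.comap g.toRingHom Q = ⟨P, hP.1.1⟩ := PrimeSpectrum.ext <| by
    show (P.map g.toRingHom).comap g.toRingHom = P
    refine (Ideal.comap_map_of_surjective g.toRingHom hg _).trans (sup_eq_left.2 ?_)
    exact hP.1.2
  let p : Spec A := ⟨P, hP.1.1⟩
  refine ⟨Y.fromSpecStalk w Q, ?_⟩
  have hη : i (Y.fromSpecStalk w Q) = X.fromSpecStalk (i w) p := by
    have h1 := congrArg (fun φ : Spec B ⟶ X => φ Q) (Scheme.SpecMap_stalkMap_fromSpecStalk (f := i) (x := w))
    exact h1.symm.trans (congrArg (X.fromSpecStalk (i w)) hQ)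
  rw [hη]
  haveI : Flat (X.fromSpecStalk (i w)) := GrpSchLib.flat_fromSpecStalk _
  letI : Algebra A ((Spec A).presheaf.stalk p) := StructureSheaf.stalkAlgebra A p
  haveI : IsLocalization.AtPrime ((Spec A).presheaf.stalk p) P := StructureSheaf.IsLocalization.to_stalk A p
  haveI : IsNoetherianRing ((Spec A).presheaf.stalk p) := IsLocalization.isNoetherianRing P.primeCompl _ inferInstance
  refine (dim_stalk_le_of_flat (X.fromSpecStalk (i w)) p).trans ?_
  rw [IsLocalization.AtPrime.ringKrullDim_eq_height P ((Spec A).presheaf.stalk p), ← ringKrullDim_eq_of_ringEquiv eA]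
  refine le_trans ?_ (le_of_eq hc.symm)
  exact_mod_cast hPht.trans (Nat.cast_le.2 ((List.toFinset_card_le rs).trans hlen))

theorem dim_fiber_le_stalk [IsLocallyNoetherian X] [IsLocallyNoetherian S] (f : X ⟶ S) [Flat f] (x : X) :
    ringKrullDim (CInt.fiberStalk f x) ≤ ringKrullDim (X.presheaf.stalk x) := by
  rw [dim_stalk_eq_add f x]
  exact le_add_of_nonneg_left ringKrullDim_nonneg_of_nontrivial

theorem iInf_eq [IsLocallyNoetherian X] [IsLocallyNoetherian S] (f : X ⟶ S) [Smooth f]
    (i : Y ⟶ X) [IsClosedImmersion i] [Smooth (i ≫ f)] :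
    (⨅ y : Set.range i.base, ringKrullDim (CInt.fiberStalk f y.1)) =
      ⨅ y : Set.range i.base, ringKrullDim (X.presheaf.stalk y.1) := by
  refine le_antisymm (iInf_mono fun y => dim_fiber_le_stalk f y.1) (le_iInf fun ⟨y, w, hw⟩ => ?_)
  subst hw
  obtain ⟨w', hw'⟩ := exists_dim_stalk_le_fiber f i w
  exact (iInf_le _ (⟨i w', w', rfl⟩ : Set.range i.base)).trans hw'

end Groth.Agent.LA96.SmoothCodim
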